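import Groth.Agent.FibLib.Rep
import Mathlib.CategoryTheory.Limits.Shapes.Pullback.HasPullback

/-!
# Representable morphisms
-/

universe v₄ u₄ v₃ u₃ v₂ u₂ v u

set_option linter.style.haveILetI false

open CategoryTheory CategoryTheory.Limits FibCat

namespace FibLib

variable {C : Type u} [Category.{v} C]

section Slices

variable {A A' B : C} (h : A ⟶ B) (h' : A' ⟶ B) [HasPullback h h']

/-- The canonical 2-isomorphism of the pullback square of slices. -/
noncomputable def sliceSquare :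
    BasedFunctor.comp (overMap (pullback.fst h h')) (overMap h) ≅
      BasedFunctor.comp (overMap (pullback.snd h h')) (overMap h') :=
  BasedNatIso.mkNatIso (NatIso.ofComponents (fun T => Over.isoMk (Iso.refl T.left) (by
      change 𝟙 T.left ≫ (T.hom ≫ pullback.snd h h') ≫ h' = (T.hom ≫ pullback.fst h h') ≫ h
      rw [Category.id_comp, Category.assoc, Category.assoc, pullback.condition]))
    (fun m => by
      apply Over.OverMorphism.ext
      change m.left ≫ 𝟙 _ = 𝟙 _ ≫ m.left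
      simp))
    (fun T => IsHomLift.of_fac' _ _ _ rfl rfl (by
      change 𝟙 T.left = 𝟙 T.left ≫ 𝟙 T.left ≫ 𝟙 T.left
      simp))

/-- `C/(A ×_B A') → C/A ×_{C/B} C/A'`. -/
noncomputable def sliceCmp : overCat (pullback h h') ⥤ᵇ fp (overMap h) (overMap h') :=
  fpLift (overMap (pullback.fst h h')) (overMap (pullback.snd h h')) (sliceSquare h h')

lemma sliceCmp_iso_left (T : Over (pullback h h')) :
    ((sliceCmp h h').obj T).obj.iso.hom.left = 𝟙 T.left := rfl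

lemma isEquivOver_sliceCmp : IsEquivOver (sliceCmp h h') := by
  haveI : (sliceCmp h h').toFunctor.Faithful := ⟨fun {x y φ ψ} e =>
    Over.OverMorphism.ext (congrArg (fun t => t.hom.fst.left) e)⟩
  haveI : (sliceCmp h h').toFunctor.Full := ⟨fun {T T'} φ => by
    have hw : φ.hom.fst.left ≫ 𝟙 T'.left = 𝟙 T.left ≫ φ.hom.snd.left :=
      congrArg (fun t => t.left) φ.hom.w
    have hs : φ.hom.fst.left = φ.hom.snd.left :=
      (Category.comp_id _).symm.trans (hw.trans (Category.id_comp _))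
    have h₁ : φ.hom.fst.left ≫ T'.hom ≫ pullback.fst h h' = T.hom ≫ pullback.fst h h' :=
      Over.w φ.hom.fst
    have h₂ : φ.hom.snd.left ≫ T'.hom ≫ pullback.snd h h' = T.hom ≫ pullback.snd h h' :=
      Over.w φ.hom.snd
    rw [← hs] at h₂
    let m : T ⟶ T' := Over.homMk φ.hom.fst.left (by
      apply pullback.hom_ext
      · rw [Category.assoc]; exact h₁
      · rw [Category.assoc]; exact h₂)
    exact ⟨m, fp_hom_ext (Over.OverMorphism.ext rfl) (Over.OverMorphism.ext hs)⟩⟩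
  refine isEquivOver_of_vertEssSurj _ (fun η => ?_)
  obtain ⟨⟨t, u, e⟩, he⟩ := η
  have he0 : (Over.forget B).IsHomLift (𝟙 t.left) e.hom := he
  have hc : u.left = t.left :=
    @IsHomLift.codomain_eq _ _ _ _ (Over.forget B) _ _ _ _ (𝟙 t.left) e.hom he0
  have he1 : e.hom.left = eqToHom hc.symm := by
    have := @IsHomLift.fac' _ _ _ _ (Over.forget B) _ _ _ _ (𝟙 t.left) e.hom he0
    change e.hom.left = _ at this
    rw [this]
    exact (Category.id_comp _).trans (Category.id_comp _)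
  let el : t.left ≅ u.left := eqToIso hc.symm
  have hw : e.hom.left ≫ u.hom ≫ h' = t.hom ≫ h := Over.w e.hom
  let T : Over (pullback h h') := Over.mk (pullback.lift t.hom (el.hom ≫ u.hom) (by
    rw [Category.assoc, ← hw, he1]; rfl))
  let f₁ : ((sliceCmp h h').obj T).obj.fst ≅ t := Over.isoMk (Iso.refl t.left) (by
    change 𝟙 t.left ≫ t.hom = T.hom ≫ pullback.fst h h'
    exact (Category.id_comp _).trans (pullback.lift_fst _ _ _).symm)
  let f₂ : ((sliceCmp h h').obj T).obj.snd ≅ u := Over.isoMk el (by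
    change el.hom ≫ u.hom = T.hom ≫ pullback.snd h h'
    exact (pullback.lift_snd _ _ _).symm)
  let ε : (sliceCmp h h').obj T ≅ ⟨⟨t, u, e⟩, he⟩ :=
    fpIsoMk (x := (sliceCmp h h').obj T) (y := ⟨⟨t, u, e⟩, he⟩) f₁ f₂ (by
      apply Over.OverMorphism.ext
      change 𝟙 t.left ≫ e.hom.left = 𝟙 t.left ≫ el.hom
      rw [he1]; rfl)
  refine ⟨T, ε, IsHomLift.of_fac' _ _ _ rfl rfl ?_⟩
  change 𝟙 t.left = 𝟙 t.left ≫ 𝟙 t.left ≫ 𝟙 t.left
  simp

lemma isRepresentable_fp_overMap : IsRepresentable (fp (overMap h) (overMap h')) :=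
  ⟨pullback h h', isEquivOver_symm (isEquivOver_sliceCmp h h')⟩

end Slices

lemma isRepresentable_overCat (U : C) : IsRepresentable (overCat U) :=
  ⟨U, BasedFunctor.id _, isEquivOver_id _⟩

/-- The fibre product of functors between slices is representable. -/
lemma isRepresentable_fp_overCat [HasPullbacks C] {A A' B : C} (a : overCat A ⥤ᵇ overCat B)
    (b : overCat A' ⥤ᵇ overCat B) : IsRepresentable (fp a b) := by
  obtain ⟨h, ⟨α⟩⟩ := exists_iso_overMap a
  obtain ⟨h', ⟨β⟩⟩ := exists_iso_overMap b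
  exact isRepresentable_of_equivTo (equivTo_fp_congr α β).symm (isRepresentable_fp_overMap h h')

section Closure

variable {𝒳 : BasedCategory.{v₂, u₂} C} {𝒴 : BasedCategory.{v₃, u₃} C} {𝒵 : BasedCategory.{v₄, u₄} C}

lemma isRepresentable_fp [HasPullbacks C] (a : 𝒳 ⥤ᵇ 𝒵) (b : 𝒴 ⥤ᵇ 𝒵) (hX : IsRepresentable 𝒳)
    (hY : IsRepresentable 𝒴) (hZ : IsRepresentable 𝒵) : IsRepresentable (fp a b) := by
  obtain ⟨A, hA⟩ := hX
  obtain ⟨A', hA'⟩ := hY
  obtain ⟨B, c, hc⟩ := hZ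
  obtain ⟨Ka, hKa⟩ := EquivTo.symm hA
  obtain ⟨Kb, hKb⟩ := EquivTo.symm hA'
  refine isRepresentable_of_equivTo (((equivTo_fp_comp_target hc a b).trans
    (equivTo_fp_left hKa _ _).symm).trans (equivTo_fp_right hKb _ _).symm) ?_
  exact isRepresentable_fp_overCat _ _

lemma isRepresentable_fp_of_rep1 {f : 𝒳 ⥤ᵇ 𝒴} (hf : IsRepresentable1 f) (G : 𝒵 ⥤ᵇ 𝒴)
    (hZ : IsRepresentable 𝒵) : IsRepresentable (fp G f) := by
  obtain ⟨A, hA⟩ := hZ
  obtain ⟨K, hK⟩ := EquivTo.symm hA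
  exact isRepresentable_of_equivTo (equivTo_fp_left hK G f).symm (hf A _)

lemma isRepresentable1_fpFst {f : 𝒳 ⥤ᵇ 𝒴} (g : 𝒵 ⥤ᵇ 𝒴) (hf : IsRepresentable1 f) :
    IsRepresentable1 (fpFst g f) := fun U G =>
  isRepresentable_of_equivTo (equivTo_fp_paste G g f) (hf U _)

lemma isRepresentable1_comp {f : 𝒳 ⥤ᵇ 𝒴} {g : 𝒴 ⥤ᵇ 𝒵} (hf : IsRepresentable1 f)
    (hg : IsRepresentable1 g) : IsRepresentable1 (BasedFunctor.comp f g) := fun U G =>
  isRepresentable_of_equivTo (equivTo_fp_comp G f g).symm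
    (isRepresentable_fp_of_rep1 hf (fpSnd G g) (hg U G))

lemma isRepresentable1_of_comp_of_diag [HasPullbacks C] {f : 𝒳 ⥤ᵇ 𝒴} {g : 𝒴 ⥤ᵇ 𝒵}
    (hgf : IsRepresentable1 (BasedFunctor.comp f g)) (hΔ : IsRepresentable1 (diag g)) :
    IsRepresentable1 f := fun U G =>
  isRepresentable_of_equivTo (equivTo_fp_magic G f g)
    (isRepresentable_fp_of_rep1 hΔ _ (hgf U _))

/-- Uniqueness of 2-isomorphisms into the base. -/
lemma nonempty_iso_selfOver (F G : 𝒳 ⥤ᵇ selfOver C) : Nonempty (F ≅ G) := by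
  have h : F.toFunctor = G.toFunctor :=
    ((Functor.comp_id F.toFunctor).symm.trans F.w).trans
      (G.w.symm.trans (Functor.comp_id G.toFunctor))
  refine ⟨BasedNatIso.mkNatIso (eqToIso h) (fun x => ?_)⟩
  rw [eqToIso.hom, eqToHom_app]
  exact IsHomLift.eqToHom_domain_lift_id (p := (selfOver C).p) _ (F.w_obj x)

end Closure

section Product

variable (U V : C) [HasBinaryProduct U V]

/-- `C/(U × V) → C/U ×_C C/V`. -/
noncomputable def prodCmp : overCat (U ⨯ V) ⥤ᵇ fp (toSelf (overCat U)) (toSelf (overCat V)) :=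
  fpLift (overMap prod.fst) (overMap prod.snd) (nonempty_iso_selfOver _ _).some

lemma isEquivOver_prodCmp : IsEquivOver (prodCmp U V) := by
  haveI : (prodCmp U V).toFunctor.Faithful := ⟨fun {x y φ ψ} e =>
    Over.OverMorphism.ext (congrArg (fun t => t.hom.fst.left) e)⟩
  haveI : (prodCmp U V).toFunctor.Full := ⟨fun {T T'} φ => by
    have l₁ : (Over.forget U).IsHomLift φ.hom.fst.left φ.hom.fst :=
      IsHomLift.map (Over.forget U) φ.hom.fst
    have l₂ : (Over.forget V).IsHomLift φ.hom.fst.left φ.hom.snd :=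
      fp_isHomLift_snd _ _ φ
    have hs : φ.hom.snd.left = φ.hom.fst.left := by
      have := @IsHomLift.fac' _ _ _ _ (Over.forget V) _ _ _ _ φ.hom.fst.left φ.hom.snd l₂
      change φ.hom.snd.left = _ at this
      rw [this]
      exact (Category.id_comp _).trans (Category.comp_id _)
    have h₁ : φ.hom.fst.left ≫ T'.hom ≫ prod.fst = T.hom ≫ prod.fst := Over.w φ.hom.fst
    have h₂ : φ.hom.snd.left ≫ T'.hom ≫ prod.snd = T.hom ≫ prod.snd := Over.w φ.hom.snd
    rw [hs] at h₂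
    let m : T ⟶ T' := Over.homMk φ.hom.fst.left (by
      apply prod.hom_ext
      · rw [Category.assoc]; exact h₁
      · rw [Category.assoc]; exact h₂)
    exact ⟨m, fp_hom_ext (Over.OverMorphism.ext rfl) (Over.OverMorphism.ext hs.symm)⟩⟩
  refine isEquivOver_of_vertEssSurj _ (fun η => ?_)
  obtain ⟨⟨t, u, e⟩, he⟩ := η
  let el : t.left ≅ u.left := e
  have he0 : (selfOver C).p.IsHomLift (𝟙 t.left) el.hom := he
  let T : Over (U ⨯ V) := Over.mk (prod.lift t.hom (el.hom ≫ u.hom))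
  let f₁ : ((prodCmp U V).obj T).obj.fst ≅ t := Over.isoMk (Iso.refl t.left) (by
    change 𝟙 t.left ≫ t.hom = T.hom ≫ prod.fst
    exact (Category.id_comp _).trans (prod.lift_fst _ _).symm)
  let f₂ : ((prodCmp U V).obj T).obj.snd ≅ u := Over.isoMk el (by
    change el.hom ≫ u.hom = T.hom ≫ prod.snd
    exact (prod.lift_snd _ _).symm)
  let ε : (prodCmp U V).obj T ≅ ⟨⟨t, u, e⟩, he⟩ :=
    fpIsoMk (x := (prodCmp U V).obj T) (y := ⟨⟨t, u, e⟩, he⟩) f₁ f₂ (by
      have hi : (selfOver C).p.IsHomLift (𝟙 t.left) ((prodCmp U V).obj T).obj.iso.hom :=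
        ((prodCmp U V).obj T).property
      haveI : (selfOver C).p.IsHomLift (𝟙 t.left) (el.hom) := he0
      have e₁ : ((prodCmp U V).obj T).obj.iso.hom = 𝟙 t.left :=
        @eq_of_selfOver _ _ _ _ _ _ (𝟙 t.left) _ _ hi (IsHomLift.id rfl)
      change 𝟙 t.left ≫ el.hom = ((prodCmp U V).obj T).obj.iso.hom ≫ el.hom
      rw [e₁]
      rfl)
  refine ⟨T, ε, IsHomLift.of_fac' _ _ _ rfl rfl ?_⟩
  change 𝟙 t.left = 𝟙 t.left ≫ 𝟙 t.left ≫ 𝟙 t.left
  simp

lemma isRepresentable_fp_toSelf :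
    IsRepresentable (fp (toSelf (overCat U)) (toSelf (overCat V))) :=
  ⟨U ⨯ V, isEquivOver_symm (isEquivOver_prodCmp U V)⟩

end Product

section Diagonal

variable {𝒮 : BasedCategory.{v₂, u₂} C}

lemma isRepresentable_fp_comp_toSelf [HasBinaryProducts C] {U V : C} (a : overCat U ⥤ᵇ 𝒮)
    (b : overCat V ⥤ᵇ 𝒮) :
    IsRepresentable (fp (BasedFunctor.comp a (toSelf 𝒮)) (BasedFunctor.comp b (toSelf 𝒮))) :=
  isRepresentable_of_equivTo (equivTo_fp_congr (compToSelfIso a) (compToSelfIso b)).symm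
    (isRepresentable_fp_toSelf U V)

lemma isRepresentable1_of_diag [HasBinaryProducts C]
    (hΔ : IsRepresentable1 (diag (toSelf 𝒮))) {U : C} (G : overCat U ⥤ᵇ 𝒮) :
    IsRepresentable1 G := fun _ H =>
  isRepresentable_of_equivTo (equivTo_fp_magic H G (toSelf 𝒮))
    (isRepresentable_fp_of_rep1 hΔ _ (isRepresentable_fp_comp_toSelf H G))

lemma isRepresentable1_diag_of [HasBinaryProducts C] [HasPullbacks C]
    (h : ∀ (U : C) (G : overCat U ⥤ᵇ 𝒮), IsRepresentable1 G) :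
    IsRepresentable1 (diag (toSelf 𝒮)) := by
  intro U K
  let x := BasedFunctor.comp K (fpFst (toSelf 𝒮) (toSelf 𝒮))
  let y := BasedFunctor.comp K (fpSnd (toSelf 𝒮) (toSelf 𝒮))
  let δ : overCat U ⥤ᵇ fp (BasedFunctor.comp x (toSelf 𝒮)) (BasedFunctor.comp y (toSelf 𝒮)) :=
    fpLift (BasedFunctor.id _) (BasedFunctor.id _) (nonempty_iso_selfOver _ _).some
  have hiso : Nonempty (BasedFunctor.comp δ (fpPair x y (toSelf 𝒮)) ≅ K) := by
    refine ⟨BasedNatIso.mkNatIso (NatIso.ofComponents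
      (fun T => fpIsoMk (x := (BasedFunctor.comp δ (fpPair x y (toSelf 𝒮))).obj T) (y := K.obj T)
        (Iso.refl _) (Iso.refl _) ?_) (fun {S T} m => ?_)) (fun T => ?_)⟩
    · have hh₁ : (selfOver C).p.IsHomLift (𝟙 T.left)
          ((BasedFunctor.comp δ (fpPair x y (toSelf 𝒮))).obj T).obj.iso.hom := by
        have := ((BasedFunctor.comp δ (fpPair x y (toSelf 𝒮))).obj T).property
        have e := (BasedFunctor.comp δ (fpPair x y (toSelf 𝒮))).w_obj T
        change 𝒮.p.obj ((BasedFunctor.comp δ (fpPair x y (toSelf 𝒮))).obj T).obj.fst = T.left at e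
        unfold fpProp at this
        rw [e] at this
        exact this
      have hh₂ : (selfOver C).p.IsHomLift (𝟙 T.left) (K.obj T).obj.iso.hom := by
        have := (K.obj T).property
        have e := K.w_obj T
        change 𝒮.p.obj (K.obj T).obj.fst = T.left at e
        unfold fpProp at this
        rw [e] at this
        exact this
      have key : ((BasedFunctor.comp δ (fpPair x y (toSelf 𝒮))).obj T).obj.iso.hom =
          (K.obj T).obj.iso.hom := @eq_of_selfOver _ _ _ _ _ _ (𝟙 T.left) _ _ hh₁ hh₂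
      change (toSelf 𝒮).map (𝟙 _) ≫ (K.obj T).obj.iso.hom = _ ≫ (toSelf 𝒮).map (𝟙 _)
      rw [(toSelf 𝒮).toFunctor.map_id, (toSelf 𝒮).toFunctor.map_id]
      exact (Category.id_comp _).trans (key.symm.trans (Category.comp_id _).symm)
    · refine fp_hom_ext ?_ ?_
      · exact (Category.comp_id _).trans (Category.id_comp _).symm
      · exact (Category.comp_id _).trans (Category.id_comp _).symm
    · have e := K.w_obj T
      change 𝒮.p.obj (K.obj T).obj.fst = T.left at e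
      exact IsHomLift.of_fac' _ _ _ e e (by
        change 𝒮.p.map (𝟙 (K.obj T).obj.fst) = eqToHom e ≫ 𝟙 T.left ≫ eqToHom e.symm
        simp)
  obtain ⟨i⟩ := hiso
  refine isRepresentable_of_equivTo (((equivTo_fp_congr i (Iso.refl _)).trans
    (equivTo_fp_paste δ (fpPair x y (toSelf 𝒮)) (diag (toSelf 𝒮))).symm)) ?_
  exact isRepresentable_fp _ _ (isRepresentable_overCat U)
    (isRepresentable_of_equivTo (equivTo_fp_magic x y (toSelf 𝒮)).symm (h U y U x))
    (isRepresentable_fp_comp_toSelf x y)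

end Diagonal

section ProdMap

variable {W : BasedCategory.{v₂, u₂} C} {Y₁ : BasedCategory.{v₃, u₃} C}
  {Y₂ : BasedCategory.{v₄, u₄} C}

lemma fpToSelf_w {x y : (fp (toSelf Y₁) (toSelf Y₂)).obj} (i : x.obj.fst ≅ y.obj.fst)
    (j : x.obj.snd ≅ y.obj.snd) {R : C} (hx : Y₁.p.obj x.obj.fst = R)
    (hi : Y₁.p.IsHomLift (𝟙 R) i.hom) (hj : Y₂.p.IsHomLift (𝟙 R) j.hom) :
    (toSelf Y₁).map i.hom ≫ y.obj.iso.hom = x.obj.iso.hom ≫ (toSelf Y₂).map j.hom := by
  subst hx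
  haveI hx' : (selfOver C).p.IsHomLift (𝟙 (Y₁.p.obj x.obj.fst)) x.obj.iso.hom := x.property
  have ey : Y₁.p.obj y.obj.fst = Y₁.p.obj x.obj.fst :=
    IsHomLift.codomain_eq Y₁.p (𝟙 (Y₁.p.obj x.obj.fst)) i.hom
  haveI hy' : (selfOver C).p.IsHomLift (𝟙 (Y₁.p.obj x.obj.fst)) y.obj.iso.hom := ey ▸ y.property
  haveI : (selfOver C).p.IsHomLift (𝟙 (Y₁.p.obj x.obj.fst)) ((toSelf Y₁).map i.hom) :=
    @BasedFunctor.preserves_isHomLift _ _ _ _ (toSelf Y₁) _ _ _ _ _ i.hom hi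
  haveI : (selfOver C).p.IsHomLift (𝟙 (Y₁.p.obj x.obj.fst)) ((toSelf Y₂).map j.hom) :=
    @BasedFunctor.preserves_isHomLift _ _ _ _ (toSelf Y₂) _ _ _ _ _ j.hom hj
  exact eq_of_selfOver (𝟙 (Y₁.p.obj x.obj.fst)) _ _

/-- Functors into `Y₁ ×_C Y₂` are determined up to isomorphism by their projections. -/
def fpToSelfIsoExt (K L : W ⥤ᵇ fp (toSelf Y₁) (toSelf Y₂))
    (i₁ : BasedFunctor.comp K (fpFst _ _) ≅ BasedFunctor.comp L (fpFst _ _))
    (i₂ : BasedFunctor.comp K (fpSnd _ _) ≅ BasedFunctor.comp L (fpSnd _ _)) : K ≅ L :=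
  BasedNatIso.mkNatIso (NatIso.ofComponents
    (fun w => fpIsoMk (x := K.obj w) (y := L.obj w) (appIso i₁ w) (appIso i₂ w)
      (fpToSelf_w (x := K.obj w) (y := L.obj w) (appIso i₁ w) (appIso i₂ w) (K.w_obj w)
        (appIso_lift i₁ rfl) (appIso_lift i₂ rfl)))
    (fun m => fp_hom_ext (appIso_naturality i₁ m) (appIso_naturality i₂ m)))
    (fun w => by
      have h := appIso_lift i₁ (a := w) (S := W.p.obj w) rfl
      exact IsHomLift.of_fac _ _ _ (K.w_obj w) (L.w_obj w)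
        (@IsHomLift.fac _ _ _ _ Y₁.p _ _ _ _ (𝟙 (W.p.obj w)) (appIso i₁ w).hom h))

end ProdMap

section ProdMap'

universe w w'

variable {X₁ : BasedCategory.{v₂, u₂} C} {Y₁ : BasedCategory.{v₃, u₃} C}
  {X₂ : BasedCategory.{w, w'} C} {Y₂ : BasedCategory.{v₄, u₄} C}
  (f₁ : X₁ ⥤ᵇ Y₁) (f₂ : X₂ ⥤ᵇ Y₂)
  (e : BasedFunctor.comp (BasedFunctor.comp (fpFst (toSelf X₁) (toSelf X₂)) f₁) (toSelf Y₁) ≅
    BasedFunctor.comp (BasedFunctor.comp (fpSnd (toSelf X₁) (toSelf X₂)) f₂) (toSelf Y₂))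
  {U : C} (G : overCat U ⥤ᵇ fp (toSelf Y₁) (toSelf Y₂))

/-- The auxiliary functor for the product of two morphisms. -/
abbrev prodAux : fp (BasedFunctor.comp G (fpFst _ _)) f₁ ⥤ᵇ Y₂ :=
  BasedFunctor.comp (fpFst (BasedFunctor.comp G (fpFst _ _)) f₁) (BasedFunctor.comp G (fpSnd _ _))

/-- The comparison functor for the product of two morphisms. -/
noncomputable def prodMapCmp :
    fp (prodAux f₁ G) f₂ ⥤ᵇ fp G (fpLift (BasedFunctor.comp (fpFst (toSelf X₁) (toSelf X₂)) f₁)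
      (BasedFunctor.comp (fpSnd (toSelf X₁) (toSelf X₂)) f₂) e) :=
  fpLift
    (BasedFunctor.comp (fpFst (prodAux f₁ G) f₂) (fpFst (BasedFunctor.comp G (fpFst _ _)) f₁))
    (fpLift (BasedFunctor.comp (fpFst (prodAux f₁ G) f₂) (fpSnd (BasedFunctor.comp G (fpFst _ _)) f₁))
      (fpSnd (prodAux f₁ G) f₂) (nonempty_iso_selfOver _ _).some)
    (fpToSelfIsoExt _ _
      (whiskerLeftIso' (fpFst (prodAux f₁ G) f₂) (fpIso (BasedFunctor.comp G (fpFst _ _)) f₁))
      (fpIso (prodAux f₁ G) f₂))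

lemma isEquivOver_prodMapCmp : IsEquivOver (prodMapCmp f₁ f₂ e G) := by
  haveI : (prodMapCmp f₁ f₂ e G).toFunctor.Faithful := ⟨fun {_ _ _ _} h =>
    fp_hom_ext (fp_hom_ext (congrArg (fun t => t.hom.fst) h)
      (congrArg (fun t => t.hom.snd.hom.fst) h)) (congrArg (fun t => t.hom.snd.hom.snd) h)⟩
  haveI : (prodMapCmp f₁ f₂ e G).toFunctor.Full := ⟨fun {x y} φ => by
    have h₁ : (G.map φ.hom.fst).hom.fst ≫ y.obj.fst.obj.iso.hom =
        x.obj.fst.obj.iso.hom ≫ f₁.map φ.hom.snd.hom.fst := congrArg (fun t => t.hom.fst) φ.hom.w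
    have h₂ : (G.map φ.hom.fst).hom.snd ≫ y.obj.iso.hom =
        x.obj.iso.hom ≫ f₂.map φ.hom.snd.hom.snd := congrArg (fun t => t.hom.snd) φ.hom.w
    let inner : x.obj.fst ⟶ y.obj.fst := fpHom φ.hom.fst φ.hom.snd.hom.fst h₁
    exact ⟨fpHom inner φ.hom.snd.hom.snd h₂, fp_hom_ext rfl (fp_hom_ext rfl rfl)⟩⟩
  refine isEquivOver_of_vertEssSurj _ (fun η => ?_)
  obtain ⟨⟨u, z, k⟩, hk⟩ := η
  have hk' : (fp (toSelf Y₁) (toSelf Y₂)).p.IsHomLift (𝟙 u.left) k.hom := hk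
  have l₁ : Y₁.p.IsHomLift (𝟙 u.left) (fstIso k).hom :=
    @isHomLift_fst _ _ _ _ _ _ _ _ _ (𝟙 u.left) _ _ k.hom hk'
  have l₂ : Y₂.p.IsHomLift (𝟙 u.left) (sndIso k).hom :=
    @isHomLift_snd _ _ _ _ _ _ _ _ _ (𝟙 u.left) _ _ k.hom hk'
  let ξ₀ : (fp (BasedFunctor.comp G (fpFst _ _)) f₁).obj := fpObj u z.obj.fst (fstIso k) l₁
  let ξ : (fp (prodAux f₁ G) f₂).obj := fpObj ξ₀ z.obj.snd (sndIso k) l₂
  have hz : X₁.p.obj z.obj.fst = u.left :=
    (f₁.w_obj _).symm.trans (@IsHomLift.codomain_eq _ _ _ _ Y₁.p _ _ _ _ (𝟙 u.left) (fstIso k).hom l₁)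
  let i : ((prodMapCmp f₁ f₂ e G).obj ξ).obj.snd ≅ z :=
    fpIsoMk (x := ((prodMapCmp f₁ f₂ e G).obj ξ).obj.snd) (y := z)
      (Iso.refl z.obj.fst) (Iso.refl z.obj.snd)
      (fpToSelf_w (x := ((prodMapCmp f₁ f₂ e G).obj ξ).obj.snd) (y := z) (Iso.refl z.obj.fst) (Iso.refl z.obj.snd) hz (IsHomLift.id hz)
        (IsHomLift.id ((obj_snd_eq z).trans hz)))
  let ε : (prodMapCmp f₁ f₂ e G).obj ξ ≅ ⟨⟨u, z, k⟩, hk⟩ :=
    fpIsoMk (x := (prodMapCmp f₁ f₂ e G).obj ξ) (y := ⟨⟨u, z, k⟩, hk⟩) (Iso.refl u) i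
      (fp_hom_ext
        (by
          change (G.map (𝟙 u)).hom.fst ≫ k.hom.hom.fst = k.hom.hom.fst ≫ f₁.map (𝟙 z.obj.fst)
          refine (congrArg (fun t => t.hom.fst ≫ k.hom.hom.fst) (G.toFunctor.map_id u)).trans ?_
          refine (Category.id_comp _).trans ?_
          exact ((congrArg (fun t => k.hom.hom.fst ≫ t) (f₁.toFunctor.map_id _)).trans
            (Category.comp_id _)).symm)
        (by
          change (G.map (𝟙 u)).hom.snd ≫ k.hom.hom.snd = k.hom.hom.snd ≫ f₂.map (𝟙 z.obj.snd)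
          refine (congrArg (fun t => t.hom.snd ≫ k.hom.hom.snd) (G.toFunctor.map_id u)).trans ?_
          refine (Category.id_comp _).trans ?_
          exact ((congrArg (fun t => k.hom.hom.snd ≫ t) (f₂.toFunctor.map_id _)).trans
            (Category.comp_id _)).symm))
  refine ⟨ξ, ε, IsHomLift.of_fac' _ _ _ rfl rfl ?_⟩
  change 𝟙 u.left = 𝟙 u.left ≫ 𝟙 u.left ≫ 𝟙 u.left
  simp

lemma isRepresentable1_prodMap (hf₁ : IsRepresentable1 f₁) (hf₂ : IsRepresentable1 f₂) :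
    IsRepresentable1 (fpLift (BasedFunctor.comp (fpFst (toSelf X₁) (toSelf X₂)) f₁)
      (BasedFunctor.comp (fpSnd (toSelf X₁) (toSelf X₂)) f₂) e) := fun U G =>
  isRepresentable_of_equivTo (EquivTo.symm ⟨_, isEquivOver_prodMapCmp f₁ f₂ e G⟩)
    (isRepresentable_fp_of_rep1 hf₂ _ (hf₁ U _))

end ProdMap'

end FibLib
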