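import Groth.Agent.FibLib.Basic

/-!
# 2-fibre products over the base, diagonal, inertia
-/

universe v₅ u₅ v₄ u₄ v₃ u₃ v₂ u₂ v u

set_option linter.style.haveILetI false

open CategoryTheory CategoryTheory.Limits FibCat
open CategoryTheory.Functor (Fiber IsPreFibered IsFibered IsStronglyCartesian IsCartesian)

namespace FibLib

variable {C : Type u} [Category.{v} C]
variable {𝒳 : BasedCategory.{v₂, u₂} C} {𝒴 : BasedCategory.{v₃, u₃} C} {𝒮 : BasedCategory.{v₄, u₄} C}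

section fp

variable {F : 𝒳 ⥤ᵇ 𝒮} {G : 𝒴 ⥤ᵇ 𝒮}

/-- An object of the 2-fibre product over the base. -/
@[simps obj]
def fpObj (x : 𝒳.obj) (y : 𝒴.obj) (e : F.obj x ≅ G.obj y)
    (h : 𝒮.p.IsHomLift (𝟙 (𝒳.p.obj x)) e.hom) : (fp F G).obj :=
  ⟨⟨x, y, e⟩, h⟩

/-- A morphism of the 2-fibre product over the base. -/
def fpHom {x y : (fp F G).obj} (a : x.obj.fst ⟶ y.obj.fst) (b : x.obj.snd ⟶ y.obj.snd)
    (w : F.map a ≫ y.obj.iso.hom = x.obj.iso.hom ≫ G.map b) : x ⟶ y :=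
  ObjectProperty.homMk ⟨a, b, w⟩

@[simp] lemma fpHom_fst {x y : (fp F G).obj} (a : x.obj.fst ⟶ y.obj.fst)
    (b : x.obj.snd ⟶ y.obj.snd) (w) : (fpHom a b w).hom.fst = a := rfl

@[simp] lemma fpHom_snd {x y : (fp F G).obj} (a : x.obj.fst ⟶ y.obj.fst)
    (b : x.obj.snd ⟶ y.obj.snd) (w) : (fpHom a b w).hom.snd = b := rfl

@[ext]
lemma fp_hom_ext {x y : (fp F G).obj} {f g : x ⟶ y} (h₁ : f.hom.fst = g.hom.fst)
    (h₂ : f.hom.snd = g.hom.snd) : f = g :=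
  ObjectProperty.hom_ext _ (CategoricalPullback.hom_ext h₁ h₂)

@[simp] lemma fp_comp_fst {x y z : (fp F G).obj} (f : x ⟶ y) (g : y ⟶ z) :
    (f ≫ g).hom.fst = f.hom.fst ≫ g.hom.fst := rfl

@[simp] lemma fp_comp_snd {x y z : (fp F G).obj} (f : x ⟶ y) (g : y ⟶ z) :
    (f ≫ g).hom.snd = f.hom.snd ≫ g.hom.snd := rfl

@[simp] lemma fp_id_fst (x : (fp F G).obj) : (𝟙 x : x ⟶ x).hom.fst = 𝟙 x.obj.fst := rfl

@[simp] lemma fp_id_snd (x : (fp F G).obj) : (𝟙 x : x ⟶ x).hom.snd = 𝟙 x.obj.snd := rfl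

/-- An isomorphism of the 2-fibre product from isomorphisms of the components. -/
def fpIsoMk {x y : (fp F G).obj} (a : x.obj.fst ≅ y.obj.fst) (b : x.obj.snd ≅ y.obj.snd)
    (w : F.map a.hom ≫ y.obj.iso.hom = x.obj.iso.hom ≫ G.map b.hom) : x ≅ y :=
  (fpProp F G).isoMk (CategoricalPullback.mkIso a b w)

@[simp] lemma fpIsoMk_hom_fst {x y : (fp F G).obj} (a : x.obj.fst ≅ y.obj.fst)
    (b : x.obj.snd ≅ y.obj.snd) (w) : (fpIsoMk a b w).hom.hom.fst = a.hom := rfl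

@[simp] lemma fpIsoMk_hom_snd {x y : (fp F G).obj} (a : x.obj.fst ≅ y.obj.fst)
    (b : x.obj.snd ≅ y.obj.snd) (w) : (fpIsoMk a b w).hom.hom.snd = b.hom := rfl

/-- The isomorphism of first components. -/
def fstIso {x y : (fp F G).obj} (e : x ≅ y) : x.obj.fst ≅ y.obj.fst :=
  (fpFst F G).toFunctor.mapIso e

/-- The isomorphism of second components. -/
def sndIso {x y : (fp F G).obj} (e : x ≅ y) : x.obj.snd ≅ y.obj.snd :=
  (fpSnd F G).toFunctor.mapIso e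

lemma isHomLift_fst {R S : C} (f : R ⟶ S) {x y : (fp F G).obj} (φ : x ⟶ y)
    [h : (fp F G).p.IsHomLift f φ] : 𝒳.p.IsHomLift f φ.hom.fst :=
  IsHomLift.of_fac 𝒳.p f φ.hom.fst (IsHomLift.domain_eq (fp F G).p f φ)
    (IsHomLift.codomain_eq (fp F G).p f φ) (IsHomLift.fac (fp F G).p f φ)

lemma isHomLift_of_fst {R S : C} (f : R ⟶ S) {x y : (fp F G).obj} (φ : x ⟶ y)
    [𝒳.p.IsHomLift f φ.hom.fst] : (fp F G).p.IsHomLift f φ := by
  have h₁ := IsHomLift.domain_eq 𝒳.p f φ.hom.fst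
  have h₂ := IsHomLift.codomain_eq 𝒳.p f φ.hom.fst
  have h₃ := IsHomLift.fac 𝒳.p f φ.hom.fst
  exact IsHomLift.of_fac (fp F G).p f φ h₁ h₂ h₃

lemma isHomLift_snd {R S : C} (f : R ⟶ S) {x y : (fp F G).obj} (φ : x ⟶ y)
    [h : (fp F G).p.IsHomLift f φ] : 𝒴.p.IsHomLift f φ.hom.snd := by
  cases h
  infer_instance

lemma obj_snd_eq (x : (fp F G).obj) : 𝒴.p.obj x.obj.snd = 𝒳.p.obj x.obj.fst :=
  (fpSnd F G).w_obj x

lemma isStronglyCartesian_fp {R S : C} (f : R ⟶ S) {x y : (fp F G).obj} (φ : x ⟶ y)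
    [𝒳.p.IsStronglyCartesian f φ.hom.fst] [𝒴.p.IsStronglyCartesian f φ.hom.snd]
    [𝒮.p.IsStronglyCartesian f (G.map φ.hom.snd)] : (fp F G).p.IsStronglyCartesian f φ := by
  haveI : (fp F G).p.IsHomLift f φ := isHomLift_of_fst f φ
  constructor
  intro z g₀ ψ hψ
  obtain ⟨g, rfl⟩ : ∃ g : 𝒳.p.obj z.obj.fst ⟶ R, g = g₀ := ⟨g₀, rfl⟩
  haveI : 𝒳.p.IsHomLift (g ≫ f) ψ.hom.fst := isHomLift_fst _ ψ (h := hψ)
  haveI : 𝒴.p.IsHomLift (g ≫ f) ψ.hom.snd := isHomLift_snd _ ψ (h := hψ)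
  let a := IsStronglyCartesian.map 𝒳.p f φ.hom.fst (f' := g ≫ f) (g := g) rfl ψ.hom.fst
  let b := IsStronglyCartesian.map 𝒴.p f φ.hom.snd (f' := g ≫ f) (g := g) rfl ψ.hom.snd
  have ha : a ≫ φ.hom.fst = ψ.hom.fst := IsStronglyCartesian.fac _ _ _ _ _
  have hb : b ≫ φ.hom.snd = ψ.hom.snd := IsStronglyCartesian.fac _ _ _ _ _
  haveI hxi : 𝒮.p.IsHomLift (𝟙 R) x.obj.iso.hom :=
    IsHomLift.domain_eq (fp F G).p f φ ▸ x.property
  haveI hzi : 𝒮.p.IsHomLift (𝟙 (𝒳.p.obj z.obj.fst)) z.obj.iso.hom := z.property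
  have w : F.map a ≫ x.obj.iso.hom = z.obj.iso.hom ≫ G.map b := by
    haveI : 𝒮.p.IsHomLift g (F.map a ≫ x.obj.iso.hom) := inferInstance
    haveI : 𝒮.p.IsHomLift g (z.obj.iso.hom ≫ G.map b) := inferInstance
    apply IsStronglyCartesian.ext 𝒮.p f (G.map φ.hom.snd) g
    simp only [Category.assoc, ← φ.hom.w, ← Functor.map_comp, hb]
    rw [← Category.assoc, ← Functor.map_comp, ha, ψ.hom.w]
  refine ⟨fpHom a b w, ⟨?_, by ext <;> simp [ha, hb]⟩, ?_⟩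
  · haveI : 𝒳.p.IsHomLift g (fpHom a b w).hom.fst :=
      inferInstanceAs (𝒳.p.IsHomLift g a)
    exact isHomLift_of_fst g _
  · rintro χ ⟨hχ, hχ'⟩
    haveI := isHomLift_fst g χ (h := hχ)
    haveI := isHomLift_snd g χ (h := hχ)
    ext
    · exact IsStronglyCartesian.map_uniq 𝒳.p f φ.hom.fst (g := g) rfl ψ.hom.fst _
        (congrArg (·.hom.fst) hχ')
    · exact IsStronglyCartesian.map_uniq 𝒴.p f φ.hom.snd (g := g) rfl ψ.hom.snd _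
        (congrArg (·.hom.snd) hχ')

lemma isCartesian_fp {R S : C} (f : R ⟶ S) {x y : (fp F G).obj} (φ : x ⟶ y)
    [𝒳.p.IsCartesian f φ.hom.fst] [𝒴.p.IsCartesian f φ.hom.snd]
    [𝒮.p.IsCartesian f (G.map φ.hom.snd)] : (fp F G).p.IsCartesian f φ := by
  haveI : (fp F G).p.IsHomLift f φ := isHomLift_of_fst f φ
  constructor
  intro z ψ hψ
  haveI : 𝒳.p.IsHomLift f ψ.hom.fst := isHomLift_fst _ ψ
  haveI : 𝒴.p.IsHomLift f ψ.hom.snd := isHomLift_snd _ ψ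
  let a := IsCartesian.map 𝒳.p f φ.hom.fst ψ.hom.fst
  let b := IsCartesian.map 𝒴.p f φ.hom.snd ψ.hom.snd
  have ha : a ≫ φ.hom.fst = ψ.hom.fst := IsCartesian.fac _ _ _ _
  have hb : b ≫ φ.hom.snd = ψ.hom.snd := IsCartesian.fac _ _ _ _
  haveI hxi : 𝒮.p.IsHomLift (𝟙 R) x.obj.iso.hom :=
    IsHomLift.domain_eq (fp F G).p f φ ▸ x.property
  haveI hzi : 𝒮.p.IsHomLift (𝟙 R) z.obj.iso.hom :=
    IsHomLift.domain_eq (fp F G).p f ψ ▸ z.property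
  have w : F.map a ≫ x.obj.iso.hom = z.obj.iso.hom ≫ G.map b := by
    apply IsCartesian.ext 𝒮.p f (G.map φ.hom.snd)
    simp only [Category.assoc, ← φ.hom.w, ← Functor.map_comp, hb]
    rw [← Category.assoc, ← Functor.map_comp, ha, ψ.hom.w]
  refine ⟨fpHom a b w, ⟨?_, by ext <;> simp [ha, hb]⟩, ?_⟩
  · haveI : 𝒳.p.IsHomLift (𝟙 R) (fpHom a b w).hom.fst :=
      inferInstanceAs (𝒳.p.IsHomLift (𝟙 R) a)
    exact isHomLift_of_fst _ _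
  · rintro χ ⟨hχ, hχ'⟩
    haveI := isHomLift_fst (𝟙 R) χ
    haveI := isHomLift_snd (𝟙 R) χ
    ext
    · exact IsCartesian.map_uniq 𝒳.p f φ.hom.fst ψ.hom.fst _ (congrArg (·.hom.fst) hχ')
    · exact IsCartesian.map_uniq 𝒴.p f φ.hom.snd ψ.hom.snd _ (congrArg (·.hom.snd) hχ')

/-- A pair of lifts with strongly cartesian images glues to a morphism of the fibre product. -/
lemma exists_fpHom (y : (fp F G).obj) {R : C} (f : R ⟶ 𝒳.p.obj y.obj.fst)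
    {x' : 𝒳.obj} (a : x' ⟶ y.obj.fst) [𝒳.p.IsHomLift f a]
    {y' : 𝒴.obj} (b : y' ⟶ y.obj.snd) [𝒴.p.IsHomLift f b]
    [𝒮.p.IsStronglyCartesian f (F.map a)] [𝒮.p.IsStronglyCartesian f (G.map b)] :
    ∃ (e : F.obj x' ≅ G.obj y') (h : 𝒮.p.IsHomLift (𝟙 (𝒳.p.obj x')) e.hom),
      F.map a ≫ y.obj.iso.hom = (fpObj x' y' e h).obj.iso.hom ≫ G.map b := by
  haveI : 𝒮.p.IsHomLift (𝟙 (𝒳.p.obj y.obj.fst)) y.obj.iso.hom := y.property
  haveI : 𝒮.p.IsStronglyCartesian f (F.map a ≫ y.obj.iso.hom) := by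
    simpa using (inferInstance :
      𝒮.p.IsStronglyCartesian (f ≫ 𝟙 _) (F.map a ≫ y.obj.iso.hom))
  let e := IsCartesian.domainUniqueUpToIso 𝒮.p f (G.map b) (F.map a ≫ y.obj.iso.hom)
  have h : 𝒮.p.IsHomLift (𝟙 R) e.hom :=
    IsCartesian.domainUniqueUpToIso_inv_isHomLift 𝒮.p f (G.map b) (F.map a ≫ y.obj.iso.hom)
  have h' : 𝒮.p.IsHomLift (𝟙 (𝒳.p.obj x')) e.hom :=
    (IsHomLift.domain_eq 𝒳.p f a).symm ▸ h
  exact ⟨e, h', (IsCartesian.fac 𝒮.p f (G.map b) (F.map a ≫ y.obj.iso.hom)).symm⟩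

lemma isFibered_fp [𝒳.p.IsFibered] [𝒴.p.IsFibered] (hF : PreservesStronglyCartesian F)
    (hG : PreservesStronglyCartesian G) : (fp F G).p.IsFibered := by
  refine IsFibered.of_exists_isStronglyCartesian fun y R f => ?_
  obtain ⟨x', a, ha⟩ := exists_stronglyCartesian 𝒳.p (a := y.obj.fst) (R := R)
    (S := 𝒳.p.obj y.obj.fst) rfl f
  obtain ⟨y', b, hb⟩ := exists_stronglyCartesian 𝒴.p (R := R) (obj_snd_eq y) f
  haveI := hF _ a ha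
  haveI := hG _ b hb
  obtain ⟨e, h, w⟩ := exists_fpHom y f a b
  let φ : fpObj x' y' e h ⟶ y := fpHom a b w
  haveI : 𝒳.p.IsStronglyCartesian f φ.hom.fst := ha
  haveI : 𝒴.p.IsStronglyCartesian f φ.hom.snd := hb
  haveI : 𝒮.p.IsStronglyCartesian f (G.map φ.hom.snd) := hG _ b hb
  exact ⟨_, φ, isStronglyCartesian_fp f φ⟩

lemma isPreFibered_fp [𝒳.p.IsPreFibered] [𝒴.p.IsPreFibered] [IsFibGrpd 𝒮.p] :
    (fp F G).p.IsPreFibered := by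
  constructor
  intro y R f
  obtain ⟨x', a, ha⟩ := IsPreFibered.exists_isCartesian 𝒳.p (a := y.obj.fst) (R := R)
    (S := 𝒳.p.obj y.obj.fst) rfl f
  obtain ⟨y', b, hb⟩ := IsPreFibered.exists_isCartesian 𝒴.p (R := R) (obj_snd_eq y) f
  obtain ⟨e, h, w⟩ := exists_fpHom y f a b
  let φ : fpObj x' y' e h ⟶ y := fpHom a b w
  haveI : 𝒳.p.IsCartesian f φ.hom.fst := ha
  haveI : 𝒴.p.IsCartesian f φ.hom.snd := hb
  exact ⟨_, φ, isCartesian_fp f φ⟩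

lemma isFibGrpd_fp [IsFibGrpd 𝒳.p] [IsFibGrpd 𝒴.p] [IsFibGrpd 𝒮.p] : IsFibGrpd (fp F G).p where
  exists_lift {y R} f := by
    haveI := isFibered_fp (preservesStronglyCartesian_of_isFibGrpd F)
      (preservesStronglyCartesian_of_isFibGrpd G)
    obtain ⟨b, φ, hφ⟩ := exists_stronglyCartesian (fp F G).p (a := y) rfl f
    exact ⟨b, φ, hφ.toIsHomLift⟩
  isStronglyCartesian {x y} φ := by
    haveI := isHomLift_fst ((fp F G).p.map φ) φ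
    haveI := isHomLift_snd ((fp F G).p.map φ) φ
    exact isStronglyCartesian_fp _ φ

lemma fiber_hom_eq {U : C} {a b : (fp F G).p.Fiber U} {φ ψ : a ⟶ b}
    (h₁ : φ.1.hom.fst = ψ.1.hom.fst) (h₂ : φ.1.hom.snd = ψ.1.hom.snd) : φ = ψ :=
  Subtype.ext (fp_hom_ext h₁ h₂)

end fp

section Diag

variable (G : 𝒳 ⥤ᵇ 𝒴)

lemma diag_faithful : (diag G).toFunctor.Faithful :=
  ⟨fun {_ _ _ _} h => congrArg (fun t => t.hom.fst) h⟩

lemma isEquivOver_diag [G.toFunctor.Full] [G.toFunctor.Faithful] : IsEquivOver (diag G) := by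
  haveI := diag_faithful G
  haveI : (diag G).toFunctor.Full := ⟨fun {x y} φ => ⟨φ.hom.fst, by
    refine fp_hom_ext rfl (G.toFunctor.map_injective ?_)
    have h : G.map φ.hom.fst ≫ 𝟙 (G.obj y) = 𝟙 (G.obj x) ≫ G.map φ.hom.snd := φ.hom.w
    exact ((Category.comp_id _).symm.trans (h.trans (Category.id_comp _)))⟩⟩
  refine isEquivOver_of_vertEssSurj _ (fun η => ?_)
  haveI hη : 𝒴.p.IsHomLift (𝟙 (𝒳.p.obj η.obj.fst)) η.obj.iso.hom := η.property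
  let k : η.obj.fst ≅ η.obj.snd := G.toFunctor.preimageIso η.obj.iso
  have w : G.map (𝟙 η.obj.fst) ≫ η.obj.iso.hom = 𝟙 (G.obj η.obj.fst) ≫ G.map k.hom := by
    simp only [k, Functor.preimageIso_hom, Functor.map_preimage, Functor.map_id]
  let e : (diag G).obj η.obj.fst ≅ η :=
    fpIsoMk (x := (diag G).obj η.obj.fst) (Iso.refl η.obj.fst) k w
  refine ⟨η.obj.fst, e, ?_⟩
  haveI he : 𝒳.p.IsHomLift (𝟙 (𝒳.p.obj η.obj.fst)) e.hom.hom.fst := IsHomLift.id rfl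
  have h := isHomLift_of_fst (𝟙 (𝒳.p.obj η.obj.fst)) e.hom
  exact h

lemma fullyFaithful_of_isEquivOver_diag [IsFibGrpd 𝒳.p] [IsFibGrpd 𝒴.p]
    (h : IsEquivOver (diag G)) : G.toFunctor.Full ∧ G.toFunctor.Faithful := by
  obtain ⟨⟨_, _⟩, hE⟩ := (isEquivOver_iff _).mp h
  have hP := preservesStronglyCartesian_of_isFibGrpd G
  refine ⟨full_of_fiber G hP (fun U => ⟨fun {a b} k => ?_⟩),
    faithful_of_fiber G hP (fun U => ⟨fun {a b} φ φ' hφ => ?_⟩)⟩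
  · obtain ⟨a, rfl⟩ := a
    let k' : G.obj a ⟶ G.obj b.1 := k.1
    haveI hk : 𝒴.p.IsHomLift (𝟙 (𝒳.p.obj a)) k' := k.2
    haveI := isIso_of_isHomLift 𝒴.p (𝟙 (𝒳.p.obj a)) k'
    obtain ⟨z, e, he⟩ := hE (fpObj (F := G) (G := G) a b.1 (asIso k') hk)
    haveI ha : 𝒳.p.IsHomLift (𝟙 (𝒳.p.obj a)) (fstIso e).hom :=
      @isHomLift_fst _ _ _ _ _ _ _ _ _ (𝟙 (𝒳.p.obj a)) _ _ e.hom he
    haveI hb : 𝒳.p.IsHomLift (𝟙 (𝒳.p.obj a)) (sndIso e).hom :=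
      @isHomLift_snd _ _ _ _ _ _ _ _ _ (𝟙 (𝒳.p.obj a)) _ _ e.hom he
    let u : z ≅ a := fstIso e
    let t : z ≅ b.1 := sndIso e
    haveI hu : 𝒳.p.IsHomLift (𝟙 (𝒳.p.obj a)) u.hom := ha
    haveI ht : 𝒳.p.IsHomLift (𝟙 (𝒳.p.obj a)) t.hom := hb
    refine ⟨⟨u.inv ≫ t.hom,
      IsHomLift.comp_of_lift_id 𝒳.p (𝒳.p.obj a) u.inv t.hom⟩, Subtype.ext ?_⟩
    change G.map (u.inv ≫ t.hom) = k'
    have w : G.map u.hom ≫ k' = 𝟙 (G.obj z) ≫ G.map t.hom := e.hom.hom.w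
    rw [Category.id_comp] at w
    rw [G.toFunctor.map_comp, ← w, ← Category.assoc, ← G.toFunctor.map_comp, Iso.inv_hom_id,
      G.toFunctor.map_id]
    exact Category.id_comp _
  · have hφ' : G.map φ.1 = G.map φ'.1 := congrArg (·.1) hφ
    let m : (diag G).obj a.1 ⟶ (diag G).obj b.1 :=
      fpHom φ.1 φ'.1 ((Category.comp_id _).trans (hφ'.trans (Category.id_comp _).symm))
    obtain ⟨θ, hθ⟩ := (diag G).toFunctor.map_surjective m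
    have h₁ : θ = φ.1 := congrArg (fun t => t.hom.fst) hθ
    have h₂ : θ = φ'.1 := congrArg (fun t => t.hom.snd) hθ
    exact Subtype.ext (h₁.symm.trans h₂)

end Diag

section Inertia

variable {F : 𝒳 ⥤ᵇ 𝒴}

lemma inertia_isHomLift {R S : C} (f : R ⟶ S) {x y : InertiaObj F} (φ : x ⟶ y)
    [h : (inertia F).p.IsHomLift f φ] : 𝒳.p.IsHomLift f φ.hom :=
  IsHomLift.of_fac 𝒳.p f φ.hom (IsHomLift.domain_eq (inertia F).p f φ)
    (IsHomLift.codomain_eq (inertia F).p f φ) (IsHomLift.fac (inertia F).p f φ)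

lemma inertia_isHomLift_of {R S : C} (f : R ⟶ S) {x y : InertiaObj F} (φ : x ⟶ y)
    [𝒳.p.IsHomLift f φ.hom] : (inertia F).p.IsHomLift f φ := by
  have h₁ := IsHomLift.domain_eq 𝒳.p f φ.hom
  have h₂ := IsHomLift.codomain_eq 𝒳.p f φ.hom
  have h₃ := IsHomLift.fac 𝒳.p f φ.hom
  exact IsHomLift.of_fac (inertia F).p f φ h₁ h₂ h₃

lemma inertia_aut_lift (x : InertiaObj F) {R : C} (h : 𝒳.p.obj x.pt = R) :
    𝒳.p.IsHomLift (𝟙 R) x.aut.hom := by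
  subst h
  haveI : 𝒴.p.IsHomLift (𝟙 (𝒳.p.obj x.pt)) (F.map x.aut.hom) := by
    rw [x.map_aut]; infer_instance
  exact F.isHomLift_map _ _

lemma isStronglyCartesian_inertia {R S : C} (f : R ⟶ S) {x y : InertiaObj F} (φ : x ⟶ y)
    [𝒳.p.IsStronglyCartesian f φ.hom] : (inertia F).p.IsStronglyCartesian f φ := by
  haveI : (inertia F).p.IsHomLift f φ := inertia_isHomLift_of f φ
  constructor
  intro z g₀ ψ hψ
  obtain ⟨g, rfl⟩ : ∃ g : 𝒳.p.obj z.pt ⟶ R, g = g₀ := ⟨g₀, rfl⟩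
  haveI : 𝒳.p.IsHomLift (g ≫ f) ψ.hom := inertia_isHomLift _ ψ (h := hψ)
  haveI : 𝒳.p.IsHomLift (𝟙 (𝒳.p.obj z.pt)) z.aut.hom := inertia_aut_lift z rfl
  haveI : 𝒳.p.IsHomLift (𝟙 R) x.aut.hom :=
    inertia_aut_lift x (IsHomLift.domain_eq 𝒳.p f φ.hom)
  let a := IsStronglyCartesian.map 𝒳.p f φ.hom (f' := g ≫ f) (g := g) rfl ψ.hom
  have ha : a ≫ φ.hom = ψ.hom := IsStronglyCartesian.fac _ _ _ _ _
  have w : z.aut.hom ≫ a = a ≫ x.aut.hom := by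
    apply IsStronglyCartesian.ext 𝒳.p f φ.hom g
    rw [Category.assoc, ha, ψ.comm, Category.assoc, φ.comm, ← Category.assoc, ha]
  let χ : z ⟶ x := ⟨a, w⟩
  haveI : 𝒳.p.IsHomLift g χ.hom := inferInstanceAs (𝒳.p.IsHomLift g a)
  refine ⟨χ, ⟨inertia_isHomLift_of g χ, InertiaObj.hom_ext ha⟩, ?_⟩
  rintro θ ⟨hθ, hθ'⟩
  haveI := inertia_isHomLift g θ (h := hθ)
  exact InertiaObj.hom_ext (IsStronglyCartesian.map_uniq 𝒳.p f φ.hom (g := g) rfl ψ.hom _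
    (congrArg (·.hom) hθ'))

lemma isFibered_inertia [𝒳.p.IsFibered] (hF : PreservesStronglyCartesian F) :
    (inertia F).p.IsFibered := by
  refine IsFibered.of_exists_isStronglyCartesian fun y R f₀ => ?_
  obtain ⟨f, rfl⟩ : ∃ f : R ⟶ 𝒳.p.obj y.pt, f = f₀ := ⟨f₀, rfl⟩
  haveI hy : 𝒳.p.IsHomLift (𝟙 (𝒳.p.obj y.pt)) y.aut.hom := inertia_aut_lift y rfl
  obtain ⟨x, a, ha⟩ := exists_stronglyCartesian 𝒳.p (a := y.pt) rfl f
  haveI := hF _ a ha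
  haveI : 𝒳.p.IsStronglyCartesian f (a ≫ y.aut.hom) := by
    simpa using (inferInstance : 𝒳.p.IsStronglyCartesian (f ≫ 𝟙 _) (a ≫ y.aut.hom))
  let α := IsCartesian.domainUniqueUpToIso 𝒳.p f a (a ≫ y.aut.hom)
  haveI hα : 𝒳.p.IsHomLift (𝟙 R) α.hom :=
    IsCartesian.domainUniqueUpToIso_inv_isHomLift 𝒳.p f a (a ≫ y.aut.hom)
  have hαa : α.hom ≫ a = a ≫ y.aut.hom := IsCartesian.fac 𝒳.p f a _
  have hFα : F.map α.hom = 𝟙 (F.obj x) := by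
    haveI : 𝒴.p.IsHomLift (𝟙 R) (𝟙 (F.obj x)) :=
      IsHomLift.id ((F.w_obj x).trans (IsHomLift.domain_eq 𝒳.p f a))
    apply IsStronglyCartesian.ext 𝒴.p f (F.map a) (𝟙 R)
    rw [← F.toFunctor.map_comp, hαa, F.toFunctor.map_comp, y.map_aut]
    simp
  let x' : InertiaObj F := ⟨x, α, hFα⟩
  let φ : x' ⟶ y := ⟨a, hαa⟩
  haveI : 𝒳.p.IsStronglyCartesian f φ.hom := ha
  exact ⟨x', φ, isStronglyCartesian_inertia f φ⟩

lemma isFibGrpd_inertia [IsFibGrpd 𝒳.p] (hF : PreservesStronglyCartesian F) :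
    IsFibGrpd (inertia F).p where
  exists_lift {y R} f := by
    haveI := isFibered_inertia hF
    obtain ⟨b, φ, hφ⟩ := exists_stronglyCartesian (inertia F).p (a := y) rfl f
    exact ⟨b, φ, hφ.toIsHomLift⟩
  isStronglyCartesian {x y} φ := by
    haveI := inertia_isHomLift ((inertia F).p.map φ) φ
    exact isStronglyCartesian_inertia _ φ

/-- `(x, α) ↦ (x, x, (𝟙, α))`. -/
def inertiaToFpDiag (F : 𝒳 ⥤ᵇ 𝒴) : inertia F ⥤ᵇ fp (diag F) (diag F) where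
  toFunctor :=
    { obj := fun x => fpObj x.pt x.pt
        (fpIsoMk (x := (diag F).obj x.pt) (y := (diag F).obj x.pt) (Iso.refl x.pt) x.aut
          (by
            change F.map (𝟙 x.pt) ≫ 𝟙 (F.obj x.pt) = 𝟙 (F.obj x.pt) ≫ F.map x.aut.hom
            rw [x.map_aut, F.toFunctor.map_id]))
        (by
          haveI : 𝒳.p.IsHomLift (𝟙 (𝒳.p.obj x.pt)) (fpIsoMk (x := (diag F).obj x.pt)
            (y := (diag F).obj x.pt) (Iso.refl x.pt) x.aut (by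
              change F.map (𝟙 x.pt) ≫ 𝟙 (F.obj x.pt) = 𝟙 (F.obj x.pt) ≫ F.map x.aut.hom
              rw [x.map_aut, F.toFunctor.map_id])).hom.hom.fst := IsHomLift.id rfl
          exact isHomLift_of_fst _ _)
      map := fun {x y} f => fpHom f.hom f.hom (fp_hom_ext
        (show f.hom ≫ 𝟙 y.pt = 𝟙 x.pt ≫ f.hom by simp) f.comm.symm)
      map_id := fun x => by ext <;> rfl
      map_comp := fun f g => by ext <;> rfl }
  w := rfl

lemma isEquivOver_inertiaToFpDiag (F : 𝒳 ⥤ᵇ 𝒴) : IsEquivOver (inertiaToFpDiag F) := by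
  haveI : (inertiaToFpDiag F).toFunctor.Faithful :=
    ⟨fun {_ _ _ _} h => InertiaObj.hom_ext (congrArg (fun t => t.hom.fst) h)⟩
  haveI : (inertiaToFpDiag F).toFunctor.Full := ⟨fun {x y} φ => by
    have h := φ.hom.w
    have h₁ : φ.hom.fst ≫ 𝟙 y.pt = 𝟙 x.pt ≫ φ.hom.snd := congrArg (fun t => t.hom.fst) h
    have h₂ : φ.hom.fst ≫ y.aut.hom = x.aut.hom ≫ φ.hom.snd := congrArg (fun t => t.hom.snd) h
    have h₃ : φ.hom.fst = φ.hom.snd :=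
      (Category.comp_id _).symm.trans (h₁.trans (Category.id_comp _))
    rw [← h₃] at h₂
    exact ⟨⟨φ.hom.fst, h₂.symm⟩, fp_hom_ext rfl h₃⟩⟩
  refine isEquivOver_of_vertEssSurj _ (fun η => ?_)
  obtain ⟨⟨x, y, k⟩, hk⟩ := η
  let a : x ≅ y := fstIso k
  let b : x ≅ y := sndIso k
  have hab : F.map a.hom = F.map b.hom := by
    have h : F.map a.hom ≫ 𝟙 (F.obj y) = 𝟙 (F.obj x) ≫ F.map b.hom := k.hom.hom.w
    exact (Category.comp_id _).symm.trans (h.trans (Category.id_comp _))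
  let ξ : InertiaObj F := ⟨x, b ≪≫ a.symm, by
    rw [Iso.trans_hom, F.toFunctor.map_comp, ← hab, ← F.toFunctor.map_comp, Iso.symm_hom,
      Iso.hom_inv_id, F.toFunctor.map_id]⟩
  refine ⟨ξ, fpIsoMk (F := diag F) (G := diag F) (x := (inertiaToFpDiag F).obj ξ)
    (y := ⟨⟨x, y, k⟩, hk⟩) (Iso.refl x) a (fp_hom_ext ?_ ?_), ?_⟩
  · change 𝟙 x ≫ a.hom = 𝟙 x ≫ a.hom
    rfl
  · change 𝟙 x ≫ b.hom = (b.hom ≫ a.inv) ≫ a.hom
    simp
  · haveI : (fp (diag F) (diag F)).p.IsHomLift (𝟙 (𝒳.p.obj x))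
        (fpIsoMk (F := diag F) (G := diag F) (x := (inertiaToFpDiag F).obj ξ)
          (y := ⟨⟨x, y, k⟩, hk⟩) (Iso.refl x) a (fp_hom_ext rfl (by
            change 𝟙 x ≫ b.hom = (b.hom ≫ a.inv) ≫ a.hom
            simp))).hom :=
      IsHomLift.of_fac _ _ _ rfl rfl (by
        change 𝟙 (𝒳.p.obj x) = 𝟙 (𝒳.p.obj x) ≫ 𝒳.p.map (𝟙 x) ≫ 𝟙 (𝒳.p.obj x)
        simp)
    assumption

end Inertia

section BasedProj

variable (Q : 𝒳 ⥤ᵇ 𝒴) [IsFibGrpd 𝒳.p] [IsFibGrpd 𝒴.p]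

/-- For categories fibred in groupoids every morphism is strongly cartesian for a based functor. -/
lemma isStronglyCartesian_based {y x : 𝒳.obj} (φ : y ⟶ x) :
    Q.toFunctor.IsStronglyCartesian (Q.map φ) φ := by
  constructor
  intro z g ψ hψ
  have hg : g ≫ Q.map φ = Q.map ψ :=
    @IsHomLift.eq_of_isHomLift _ _ _ _ Q.toFunctor _ _ _ ψ hψ
  haveI hfφ : 𝒳.p.IsHomLift (𝒴.p.map (Q.map φ)) φ :=
    @BasedFunctor.isHomLift_map _ _ _ _ Q _ _ y x (𝒴.p.map (Q.map φ)) φ (IsHomLift.map _ _)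
  haveI : 𝒳.p.IsHomLift (𝒴.p.map g ≫ 𝒴.p.map (Q.map φ)) ψ := by
    haveI : 𝒴.p.IsHomLift (𝒴.p.map g ≫ 𝒴.p.map (Q.map φ)) (Q.map ψ) := by
      rw [← 𝒴.p.map_comp, hg]; exact IsHomLift.map _ _
    exact Q.isHomLift_map _ ψ
  let χ : z ⟶ y :=
    IsStronglyCartesian.map 𝒳.p (𝒴.p.map (Q.map φ)) φ (g := 𝒴.p.map g) rfl ψ
  have hχ : χ ≫ φ = ψ := IsStronglyCartesian.fac _ _ _ _ _
  have hgχ : Q.map χ = g := by
    haveI : 𝒴.p.IsHomLift (𝒴.p.map g) g := IsHomLift.map _ _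
    apply IsStronglyCartesian.ext 𝒴.p (𝒴.p.map (Q.map φ)) (Q.map φ) (𝒴.p.map g)
    rw [← Q.toFunctor.map_comp, hχ, hg]
  refine ⟨χ, ⟨hgχ ▸ IsHomLift.map Q.toFunctor χ, hχ⟩, ?_⟩
  rintro θ ⟨hθ, hθ'⟩
  haveI : 𝒳.p.IsHomLift (𝒴.p.map g) θ := by
    haveI : 𝒴.p.IsHomLift (𝒴.p.map g) (Q.map θ) := by
      rw [@IsHomLift.eq_of_isHomLift _ _ _ _ Q.toFunctor _ _ g θ hθ]
      exact IsHomLift.map _ _
    exact Q.isHomLift_map _ θ
  exact IsStronglyCartesian.map_uniq 𝒳.p (𝒴.p.map (Q.map φ)) φ (g := 𝒴.p.map g) rfl ψ θ hθ'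

/-- A based functor of categories fibred in groupoids with the isomorphism lifting property is
itself fibred in groupoids. -/
lemma isFibGrpd_based (hl : ∀ (x : 𝒳.obj) (w : 𝒴.obj) (d : w ≅ Q.obj x),
    𝒴.p.IsHomLift (𝟙 (𝒳.p.obj x)) d.hom →
      ∃ (x' : 𝒳.obj) (φ : x' ⟶ x), Q.toFunctor.IsHomLift d.hom φ) :
    IsFibGrpd Q.toFunctor where
  exists_lift {x V} f := by
    obtain ⟨x', a, ha⟩ := exists_lift 𝒳.p (a := x) (Q.w_obj x).symm (𝒴.p.map f)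
    have h₁ : 𝒴.p.IsHomLift (𝒴.p.map f) f := IsHomLift.map _ _
    let d := IsCartesian.domainUniqueUpToIso 𝒴.p (𝒴.p.map f) (Q.map a) f
    have hd : 𝒴.p.IsHomLift (𝟙 (𝒴.p.obj V)) d.hom :=
      IsCartesian.domainUniqueUpToIso_inv_isHomLift 𝒴.p (𝒴.p.map f) (Q.map a) f
    have hdf : d.hom ≫ Q.map a = f := IsCartesian.fac 𝒴.p (𝒴.p.map f) (Q.map a) f
    obtain ⟨x'', φ, hφ⟩ := hl x' V d ((IsHomLift.domain_eq 𝒳.p (𝒴.p.map f) a).symm ▸ hd)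
    refine ⟨x'', φ ≫ a, ?_⟩
    rw [← hdf]
    haveI := IsHomLift.map Q.toFunctor a
    exact IsHomLift.comp Q.toFunctor d.hom (Q.map a) φ a
  isStronglyCartesian φ := isStronglyCartesian_based Q φ

lemma isFibGrpd_pi₂ : IsFibGrpd (CategoricalPullback.π₂ Q.toFunctor (𝟭 𝒴.obj)) where
  exists_lift {x V} f₀ := by
    obtain ⟨f, rfl⟩ : ∃ f : V ⟶ x.snd, f = f₀ := ⟨f₀, rfl⟩
    let k : V ⟶ Q.obj x.fst := f ≫ x.iso.inv
    have hk : k ≫ x.iso.hom = f := by simp [k]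
    obtain ⟨x', a, ha⟩ := exists_lift 𝒳.p (a := x.fst) (Q.w_obj x.fst).symm (𝒴.p.map k)
    have h₁ : 𝒴.p.IsHomLift (𝒴.p.map k) k := IsHomLift.map _ _
    let d := IsCartesian.domainUniqueUpToIso 𝒴.p (𝒴.p.map k) (Q.map a) k
    have hd : d.hom ≫ Q.map a = k := IsCartesian.fac 𝒴.p (𝒴.p.map k) (Q.map a) k
    let x'' : CategoricalPullback Q.toFunctor (𝟭 𝒴.obj) := ⟨x', V, d.symm⟩
    have hw : Q.map a ≫ x.iso.hom = d.inv ≫ f := by
      rw [Iso.eq_inv_comp, ← Category.assoc, hd, hk]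
    exact ⟨x'', ⟨a, f, hw⟩, IsHomLift.map (CategoricalPullback.π₂ Q.toFunctor (𝟭 𝒴.obj))
      (⟨a, f, hw⟩ : x'' ⟶ x)⟩
  isStronglyCartesian {y x} φ := by
    constructor
    intro z g₀ ψ hψ
    obtain ⟨g, rfl⟩ : ∃ g : z.snd ⟶ y.snd, g = g₀ := ⟨g₀, rfl⟩
    have hg : g ≫ φ.snd = ψ.snd :=
      @IsHomLift.eq_of_isHomLift _ _ _ _ (CategoricalPullback.π₂ Q.toFunctor (𝟭 𝒴.obj)) _ _ _ ψ hψ
    let k : Q.obj z.fst ⟶ Q.obj y.fst := z.iso.hom ≫ g ≫ y.iso.inv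
    haveI := isStronglyCartesian_based Q φ.fst
    have hk : k ≫ Q.map φ.fst = Q.map ψ.fst := by
      have h₁ : Q.map φ.fst ≫ x.iso.hom = y.iso.hom ≫ φ.snd := φ.w
      have h₂ : Q.map ψ.fst ≫ x.iso.hom = z.iso.hom ≫ ψ.snd := ψ.w
      rw [← cancel_mono x.iso.hom]
      simp only [k, Category.assoc, h₁, h₂, ← hg]
      simp
    haveI : Q.toFunctor.IsHomLift (k ≫ Q.map φ.fst) ψ.fst := by
      rw [hk]; exact IsHomLift.map _ _
    let a : z.fst ⟶ y.fst :=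
      IsStronglyCartesian.map Q.toFunctor (Q.map φ.fst) φ.fst (g := k) rfl ψ.fst
    have hka : k = Q.map a := IsHomLift.eq_of_isHomLift Q.toFunctor k a
    have ha : a ≫ φ.fst = ψ.fst := IsStronglyCartesian.fac _ _ _ _ _
    have hw : Q.map a ≫ y.iso.hom = z.iso.hom ≫ g := by
      rw [← hka]; simp [k]
    refine ⟨⟨a, g, hw⟩, ⟨IsHomLift.map (CategoricalPullback.π₂ Q.toFunctor (𝟭 𝒴.obj))
      (⟨a, g, hw⟩ : z ⟶ y), CategoricalPullback.hom_ext ha hg⟩, ?_⟩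
    rintro θ ⟨hθ, hθ'⟩
    have h₂ : θ.snd = g :=
      (@IsHomLift.eq_of_isHomLift _ _ _ _ (CategoricalPullback.π₂ Q.toFunctor (𝟭 𝒴.obj)) _ _ g θ
        hθ).symm
    refine CategoricalPullback.hom_ext ?_ h₂
    haveI : Q.toFunctor.IsHomLift k θ.fst := by
      have h₃ : Q.map θ.fst ≫ y.iso.hom = z.iso.hom ≫ θ.snd := θ.w
      have : k = Q.map θ.fst := by
        rw [← cancel_mono y.iso.hom, h₃, h₂]; simp [k]
      rw [this]; exact IsHomLift.map _ _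
    exact IsStronglyCartesian.map_uniq Q.toFunctor (Q.map φ.fst) φ.fst (g := k) rfl ψ.fst θ.fst
      (congrArg (·.fst) hθ')

end BasedProj

end FibLib
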