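import Groth.Agent.FibLib.Yoneda
import Mathlib.CategoryTheory.Limits.Shapes.BinaryProducts

/-!
# Representable categories over the base and representable morphisms
-/

universe v₇ u₇ v₆ u₆ v₅ u₅ v₄ u₄ v₃ u₃ v₂ u₂ v u

set_option linter.style.haveILetI false

open CategoryTheory CategoryTheory.Limits FibCat
open CategoryTheory.Functor (Fiber IsPreFibered IsFibered IsStronglyCartesian IsCartesian)

namespace FibLib

variable {C : Type u} [Category.{v} C]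

/-- Two morphisms of the base lifting the same morphism are equal. -/
lemma eq_of_selfOver {a b : C} {R S : C} (g : R ⟶ S) (p q : a ⟶ b)
    [(selfOver C).p.IsHomLift g p] [(selfOver C).p.IsHomLift g q] : p = q :=
  (IsHomLift.fac' (selfOver C).p g p).trans (IsHomLift.fac' (selfOver C).p g q).symm

section Algebra

variable {A : Type u₂} [Category.{v₂} A] {B : Type u₃} [Category.{v₃} B]

lemma alg_map_full {a a' b b' p p' q q' : A} (Au : a ⟶ a') (Bv : b ⟶ b') (P : p ⟶ p') (Q : q ⟶ q')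
    (αx : a ≅ p) (αy : a' ≅ p') (βx : b ≅ q) (βy : b' ≅ q') (k : p ⟶ q) (k' : p' ⟶ q')
    (w : Au ≫ αy.hom ≫ k' ≫ βy.inv = (αx.hom ≫ k ≫ βx.inv) ≫ Bv)
    (hα : Au ≫ αy.hom = αx.hom ≫ P) (hβ : Bv ≫ βy.hom = βx.hom ≫ Q) : P ≫ k' = k ≫ Q := by
  have h : βx.inv ≫ Bv = Q ≫ βy.inv := by
    rw [Iso.inv_comp_eq, ← Category.assoc, Iso.eq_comp_inv, hβ]
  rw [← cancel_epi αx.hom, ← cancel_mono βy.inv]
  simp only [Category.assoc] at w ⊢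
  rw [← reassoc_of% hα, w, h]

lemma alg_map_ess {a b p q x y : A} (α : a ≅ p) (β : b ≅ q) (Fe : a ≅ x) (Ge : b ≅ y) (i : x ≅ y)
    (m : p ⟶ q) (hm : m = α.inv ≫ Fe.hom ≫ i.hom ≫ Ge.inv ≫ β.hom) :
    Fe.hom ≫ i.hom = (α.hom ≫ m ≫ β.inv) ≫ Ge.hom := by
  subst hm; simp

lemma lift5 {p : A ⥤ B} {S : B} {a b c d e f : A} (f₁ : a ⟶ b) (f₂ : b ⟶ c) (f₃ : c ⟶ d)
    (f₄ : d ⟶ e) (f₅ : e ⟶ f) (h₁ : p.IsHomLift (𝟙 S) f₁) (h₂ : p.IsHomLift (𝟙 S) f₂)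
    (h₃ : p.IsHomLift (𝟙 S) f₃) (h₄ : p.IsHomLift (𝟙 S) f₄) (h₅ : p.IsHomLift (𝟙 S) f₅) :
    p.IsHomLift (𝟙 S) (f₁ ≫ f₂ ≫ f₃ ≫ f₄ ≫ f₅) := inferInstance

lemma alg_paste (g : A ⥤ B) {t t' z z' : A} {m m' : B} (au : t ⟶ t') (k : t ≅ z) (k' : t' ≅ z')
    (i : g.obj z ⟶ m) (i' : g.obj z' ⟶ m') (fw : m ⟶ m')
    (w : g.map au ≫ g.map k'.hom ≫ i' = (g.map k.hom ≫ i) ≫ fw) :
    g.map (k.inv ≫ au ≫ k'.hom) ≫ i' = i ≫ fw := by
  rw [← cancel_epi (g.map k.hom)]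
  simp only [Functor.map_comp, Category.assoc] at w ⊢
  rw [← g.map_comp_assoc k.hom k.inv, Iso.hom_inv_id, g.map_id, Category.id_comp, w]

lemma alg_comp (g : A ⥤ B) {y y' s s' : A} {m m' : B} (Gu : m ⟶ m') (k : y ≅ s) (k' : y' ≅ s')
    (i : m ⟶ g.obj y) (i' : m' ⟶ g.obj y') (fw : s ⟶ s')
    (w : Gu ≫ i' ≫ g.map k'.hom = (i ≫ g.map k.hom) ≫ g.map fw) :
    Gu ≫ i' = i ≫ g.map (k.hom ≫ fw ≫ k'.inv) := by
  rw [← cancel_mono (g.map k'.hom), Category.assoc, w]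
  simp only [Functor.map_comp, Category.assoc]
  rw [← g.map_comp k'.inv k'.hom, Iso.inv_hom_id, g.map_id, Category.comp_id]

lemma alg_magic (g : A ⥤ B) {a b s : A} (h₁ : a ⟶ s) (h₂ : b ≅ s) (e : g.obj a ⟶ g.obj b)
    (h : g.map h₁ = e ≫ g.map h₂.hom) : g.map (h₁ ≫ h₂.inv) = e := by
  rw [g.map_comp, h, Category.assoc, ← g.map_comp, Iso.hom_inv_id, g.map_id, Category.comp_id]

lemma alg_magic' (g : A ⥤ B) {t x : A} {E E' : g.obj t ⟶ g.obj x} (h : E' = E) (u : t ⟶ t)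
    (v : x ⟶ x) (hu : u = 𝟙 t) (hv : v = 𝟙 x) : g.map u ≫ E = E' ≫ g.map v := by
  simp [h, hu, hv]

end Algebra

section TwoIso

variable {𝒳 : BasedCategory.{v₂, u₂} C} {𝒴 : BasedCategory.{v₃, u₃} C} {𝒵 : BasedCategory.{v₄, u₄} C}

/-- The component of a 2-isomorphism over `C`. -/
def appIso {F G : 𝒳 ⥤ᵇ 𝒴} (α : F ≅ G) (a : 𝒳.obj) : F.obj a ≅ G.obj a :=
  ((BasedNatTrans.forgetful _ _).mapIso α).app a

lemma appIso_lift {F G : 𝒳 ⥤ᵇ 𝒴} (α : F ≅ G) {a : 𝒳.obj} {S : C} (ha : 𝒳.p.obj a = S) :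
    𝒴.p.IsHomLift (𝟙 S) (appIso α a).hom :=
  α.hom.isHomLift ha

lemma appIso_naturality {F G : 𝒳 ⥤ᵇ 𝒴} (α : F ≅ G) {a b : 𝒳.obj} (f : a ⟶ b) :
    F.map f ≫ (appIso α b).hom = (appIso α a).hom ≫ G.map f :=
  α.hom.toNatTrans.naturality f

/-- Left whiskering of a 2-isomorphism. -/
def whiskerLeftIso' (K : 𝒳 ⥤ᵇ 𝒴) {F G : 𝒴 ⥤ᵇ 𝒵} (α : F ≅ G) :
    BasedFunctor.comp K F ≅ BasedFunctor.comp K G :=
  BasedNatIso.mkNatIso (Functor.isoWhiskerLeft K.toFunctor ((BasedNatTrans.forgetful _ _).mapIso α))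
    (fun a => α.hom.isHomLift (K.w_obj a))

/-- Right whiskering of a 2-isomorphism. -/
def whiskerRightIso' {F G : 𝒳 ⥤ᵇ 𝒴} (α : F ≅ G) (K : 𝒴 ⥤ᵇ 𝒵) :
    BasedFunctor.comp F K ≅ BasedFunctor.comp G K :=
  BasedNatIso.mkNatIso (Functor.isoWhiskerRight ((BasedNatTrans.forgetful _ _).mapIso α) K.toFunctor)
    (fun a => by
      haveI : 𝒴.p.IsHomLift (𝟙 (𝒳.p.obj a)) (α.hom.toNatTrans.app a) := α.hom.isHomLift rfl
      exact inferInstanceAs (𝒵.p.IsHomLift (𝟙 (𝒳.p.obj a)) (K.map (α.hom.toNatTrans.app a))))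

/-- A functor over `C` followed by the structure functor is the structure functor. -/
def compToSelfIso (a : 𝒳 ⥤ᵇ 𝒴) : BasedFunctor.comp a (toSelf 𝒴) ≅ toSelf 𝒳 :=
  BasedNatIso.mkNatIso (eqToIso (show a.toFunctor ⋙ 𝒴.p = 𝒳.p from a.w)) (fun x => by
    change (𝟭 C).IsHomLift (𝟙 (𝒳.p.obj x))
      ((eqToIso (show a.toFunctor ⋙ 𝒴.p = 𝒳.p from a.w)).hom.app x)
    rw [eqToIso.hom, eqToHom_app]
    exact IsHomLift.eqToHom_codomain_lift_id (p := 𝟭 C) _ rfl)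

/-- Equivalence over `C` as a relation. -/
def EquivTo (𝒳 : BasedCategory.{v₂, u₂} C) (𝒴 : BasedCategory.{v₃, u₃} C) : Prop :=
  ∃ F : 𝒳 ⥤ᵇ 𝒴, IsEquivOver F

lemma EquivTo.refl (𝒳 : BasedCategory.{v₂, u₂} C) : EquivTo 𝒳 𝒳 := ⟨_, isEquivOver_id 𝒳⟩

lemma EquivTo.symm (h : EquivTo 𝒳 𝒴) : EquivTo 𝒴 𝒳 :=
  let ⟨_, hF⟩ := h
  isEquivOver_symm hF

lemma EquivTo.trans (h : EquivTo 𝒳 𝒴) (h' : EquivTo 𝒴 𝒵) : EquivTo 𝒳 𝒵 :=
  let ⟨_, hF⟩ := h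
  let ⟨_, hG⟩ := h'
  ⟨_, isEquivOver_comp hF hG⟩

lemma isRepresentable_of_equivTo (h : EquivTo 𝒳 𝒴) (h' : IsRepresentable 𝒴) :
    IsRepresentable 𝒳 :=
  let ⟨U, hU⟩ := h'
  ⟨U, EquivTo.trans h hU⟩

end TwoIso

section FpMap

variable {𝒳 : BasedCategory.{v₂, u₂} C} {𝒴 : BasedCategory.{v₃, u₃} C}
  {𝒮 : BasedCategory.{v₄, u₄} C} {𝒳' : BasedCategory.{v₅, u₅} C} {𝒴' : BasedCategory.{v₆, u₆} C}
  {𝒮' : BasedCategory.{v₇, u₇} C}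
  {F : 𝒳 ⥤ᵇ 𝒮} {G : 𝒴 ⥤ᵇ 𝒮} {F' : 𝒳' ⥤ᵇ 𝒮'} {G' : 𝒴' ⥤ᵇ 𝒮'}
  {a : 𝒳' ⥤ᵇ 𝒳} {b : 𝒴' ⥤ᵇ 𝒴} {c : 𝒮' ⥤ᵇ 𝒮}

/-- The functor of fibre products induced by a morphism of cospans over `C`. -/
def fpMap (α : BasedFunctor.comp a F ≅ BasedFunctor.comp F' c)
    (β : BasedFunctor.comp b G ≅ BasedFunctor.comp G' c) : fp F' G' ⥤ᵇ fp F G :=
  fpLift (BasedFunctor.comp (fpFst F' G') a) (BasedFunctor.comp (fpSnd F' G') b)
    (whiskerLeftIso' (fpFst F' G') α ≪≫ whiskerRightIso' (fpIso F' G') c ≪≫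
      (whiskerLeftIso' (fpSnd F' G') β).symm)

variable (α : BasedFunctor.comp a F ≅ BasedFunctor.comp F' c)
    (β : BasedFunctor.comp b G ≅ BasedFunctor.comp G' c)

lemma fpMap_obj_iso (x : (fp F' G').obj) :
    ((fpMap α β).obj x).obj.iso.hom =
      (appIso α x.obj.fst).hom ≫ c.map x.obj.iso.hom ≫ (appIso β x.obj.snd).inv := rfl

lemma isEquivOver_fpMap (ha : IsEquivOver a) (hb : IsEquivOver b) [c.toFunctor.Full]
    [c.toFunctor.Faithful] : IsEquivOver (fpMap α β) := by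
  obtain ⟨⟨_, _⟩, hEa⟩ := (isEquivOver_iff a).mp ha
  obtain ⟨⟨_, _⟩, hEb⟩ := (isEquivOver_iff b).mp hb
  haveI : (fpMap α β).toFunctor.Faithful := ⟨fun {_ _ _ _} h =>
    fp_hom_ext (a.toFunctor.map_injective (congrArg (fun t => t.hom.fst) h))
      (b.toFunctor.map_injective (congrArg (fun t => t.hom.snd) h))⟩
  haveI : (fpMap α β).toFunctor.Full := ⟨fun {x y} φ => by
    obtain ⟨u, hu⟩ := a.toFunctor.map_surjective (X := x.obj.fst) (Y := y.obj.fst) φ.hom.fst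
    obtain ⟨v, hv⟩ := b.toFunctor.map_surjective (X := x.obj.snd) (Y := y.obj.snd) φ.hom.snd
    have w : F.map (a.map u) ≫ (appIso α y.obj.fst).hom ≫ c.map y.obj.iso.hom ≫
          (appIso β y.obj.snd).inv =
        ((appIso α x.obj.fst).hom ≫ c.map x.obj.iso.hom ≫ (appIso β x.obj.snd).inv) ≫
          G.map (b.map v) := by
      have h := φ.hom.w
      exact (congrArg (fun t => F.map t ≫ _) hu).trans (h.trans (congrArg (fun t => _ ≫ G.map t) hv.symm))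
    have hα : F.map (a.map u) ≫ (appIso α y.obj.fst).hom =
        (appIso α x.obj.fst).hom ≫ c.map (F'.map u) := appIso_naturality α u
    have hβ : G.map (b.map v) ≫ (appIso β y.obj.snd).hom =
        (appIso β x.obj.snd).hom ≫ c.map (G'.map v) := appIso_naturality β v
    have w' : F'.map u ≫ y.obj.iso.hom = x.obj.iso.hom ≫ G'.map v := by
      apply c.toFunctor.map_injective
      rw [c.toFunctor.map_comp, c.toFunctor.map_comp]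
      exact alg_map_full _ _ _ _ (appIso α x.obj.fst) (appIso α y.obj.fst) (appIso β x.obj.snd)
        (appIso β y.obj.snd) _ _ w hα hβ
    exact ⟨fpHom u v w', fp_hom_ext hu hv⟩⟩
  refine isEquivOver_of_vertEssSurj _ (fun η => ?_)
  obtain ⟨x', ex, hex⟩ := hEa η.obj.fst
  haveI hη : 𝒮.p.IsHomLift (𝟙 (𝒳.p.obj η.obj.fst)) η.obj.iso.hom := η.property
  obtain ⟨y', ey, hey⟩ := hEb η.obj.snd
  rw [obj_snd_eq η] at hey
  have hx' : 𝒳'.p.obj x' = 𝒳.p.obj η.obj.fst :=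
    (a.w_obj x').symm.trans (IsHomLift.domain_eq 𝒳.p (𝟙 (𝒳.p.obj η.obj.fst)) ex.hom)
  have hy' : 𝒴'.p.obj y' = 𝒳.p.obj η.obj.fst :=
    (b.w_obj y').symm.trans (IsHomLift.domain_eq 𝒴.p (𝟙 (𝒳.p.obj η.obj.fst)) ey.hom)
  let m : c.obj (F'.obj x') ≅ c.obj (G'.obj y') :=
    (appIso α x').symm ≪≫ F.toFunctor.mapIso ex ≪≫ η.obj.iso ≪≫
      (G.toFunctor.mapIso ey).symm ≪≫ appIso β y'
  haveI hm : 𝒮.p.IsHomLift (𝟙 (𝒳.p.obj η.obj.fst)) m.hom := by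
    haveI := appIso_lift α hx'
    haveI := appIso_lift β hy'
    haveI : 𝒮.p.IsHomLift (𝟙 (𝒳.p.obj η.obj.fst)) (F.toFunctor.mapIso ex).hom :=
      inferInstanceAs (𝒮.p.IsHomLift (𝟙 (𝒳.p.obj η.obj.fst)) (F.map ex.hom))
    haveI : 𝒮.p.IsHomLift (𝟙 (𝒳.p.obj η.obj.fst)) (G.toFunctor.mapIso ey).hom :=
      inferInstanceAs (𝒮.p.IsHomLift (𝟙 (𝒳.p.obj η.obj.fst)) (G.map ey.hom))
    haveI h₄ : 𝒮.p.IsHomLift (𝟙 (𝒳.p.obj η.obj.fst)) (G.toFunctor.mapIso ey).inv :=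
      @IsHomLift.lift_id_inv _ _ _ _ 𝒮.p _ _ _ (G.toFunctor.mapIso ey) this
    exact lift5 (appIso α x').inv (F.toFunctor.mapIso ex).hom η.obj.iso.hom
      (G.toFunctor.mapIso ey).inv (appIso β y').hom inferInstance ‹_› hη h₄ ‹_›
  let k : F'.obj x' ≅ G'.obj y' := c.toFunctor.preimageIso m
  have hk : 𝒮'.p.IsHomLift (𝟙 (𝒳'.p.obj x')) k.hom := by
    haveI : 𝒮.p.IsHomLift (𝟙 (𝒳'.p.obj x')) (c.map k.hom) := by
      rw [show c.map k.hom = m.hom from c.toFunctor.map_preimage m.hom, hx']; exact hm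
    exact c.isHomLift_map _ _
  let ξ : (fp F' G').obj := fpObj x' y' k hk
  have w : F.map ex.hom ≫ η.obj.iso.hom = ((fpMap α β).obj ξ).obj.iso.hom ≫ G.map ey.hom :=
    alg_map_ess (appIso α x') (appIso β y') (F.toFunctor.mapIso ex) (G.toFunctor.mapIso ey)
      η.obj.iso (c.map k.hom) (c.toFunctor.map_preimage m.hom)
  let e : (fpMap α β).obj ξ ≅ η := fpIsoMk (x := (fpMap α β).obj ξ) ex ey w
  haveI : 𝒳.p.IsHomLift (𝟙 (𝒳.p.obj η.obj.fst)) e.hom.hom.fst := hex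
  have h := isHomLift_of_fst (𝟙 (𝒳.p.obj η.obj.fst)) e.hom
  exact ⟨ξ, e, h⟩

end FpMap

section Constructions

variable {𝒳 : BasedCategory.{v₂, u₂} C} {𝒴 : BasedCategory.{v₃, u₃} C}
  {𝒵 : BasedCategory.{v₄, u₄} C} {𝒯 : BasedCategory.{v₅, u₅} C}

lemma equivTo_fp_congr {F F' : 𝒳 ⥤ᵇ 𝒵} {G G' : 𝒴 ⥤ᵇ 𝒵} (α : F ≅ F') (β : G ≅ G') :
    EquivTo (fp F' G') (fp F G) := by
  haveI : (BasedFunctor.id 𝒵).toFunctor.Full := inferInstanceAs (𝟭 𝒵.obj).Full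
  haveI : (BasedFunctor.id 𝒵).toFunctor.Faithful := inferInstanceAs (𝟭 𝒵.obj).Faithful
  exact ⟨fpMap (a := BasedFunctor.id 𝒳) (b := BasedFunctor.id 𝒴) (c := BasedFunctor.id 𝒵) α β,
    isEquivOver_fpMap (a := BasedFunctor.id 𝒳) (b := BasedFunctor.id 𝒴) (c := BasedFunctor.id 𝒵) α β
      (isEquivOver_id _) (isEquivOver_id _)⟩

lemma equivTo_fp_left {E : 𝒯 ⥤ᵇ 𝒳} (hE : IsEquivOver E) (F : 𝒳 ⥤ᵇ 𝒵) (G : 𝒴 ⥤ᵇ 𝒵) :
    EquivTo (fp (BasedFunctor.comp E F) G) (fp F G) := by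
  haveI : (BasedFunctor.id 𝒵).toFunctor.Full := inferInstanceAs (𝟭 𝒵.obj).Full
  haveI : (BasedFunctor.id 𝒵).toFunctor.Faithful := inferInstanceAs (𝟭 𝒵.obj).Faithful
  exact ⟨fpMap (a := E) (b := BasedFunctor.id 𝒴) (c := BasedFunctor.id 𝒵) (Iso.refl _) (Iso.refl _),
    isEquivOver_fpMap _ _ hE (isEquivOver_id _)⟩

lemma equivTo_fp_right {E : 𝒯 ⥤ᵇ 𝒴} (hE : IsEquivOver E) (F : 𝒳 ⥤ᵇ 𝒵) (G : 𝒴 ⥤ᵇ 𝒵) :
    EquivTo (fp F (BasedFunctor.comp E G)) (fp F G) := by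
  haveI : (BasedFunctor.id 𝒵).toFunctor.Full := inferInstanceAs (𝟭 𝒵.obj).Full
  haveI : (BasedFunctor.id 𝒵).toFunctor.Faithful := inferInstanceAs (𝟭 𝒵.obj).Faithful
  exact ⟨fpMap (a := BasedFunctor.id 𝒳) (b := E) (c := BasedFunctor.id 𝒵) (Iso.refl _) (Iso.refl _),
    isEquivOver_fpMap _ _ (isEquivOver_id _) hE⟩

lemma equivTo_fp_comp_target {c : 𝒵 ⥤ᵇ 𝒯} (hc : IsEquivOver c) (F : 𝒳 ⥤ᵇ 𝒵) (G : 𝒴 ⥤ᵇ 𝒵) :
    EquivTo (fp F G) (fp (BasedFunctor.comp F c) (BasedFunctor.comp G c)) := by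
  obtain ⟨⟨_, _⟩, -⟩ := (isEquivOver_iff c).mp hc
  exact ⟨fpMap (a := BasedFunctor.id 𝒳) (b := BasedFunctor.id 𝒴) (c := c) (Iso.refl _) (Iso.refl _),
    isEquivOver_fpMap _ _ (isEquivOver_id _) (isEquivOver_id _)⟩

section Paste

variable (a : 𝒯 ⥤ᵇ 𝒵) (g : 𝒵 ⥤ᵇ 𝒴) (f : 𝒳 ⥤ᵇ 𝒴)

/-- Pasting of 2-fibre squares. -/
def fpPaste : fp a (fpFst g f) ⥤ᵇ fp (BasedFunctor.comp a g) f :=
  fpLift (fpFst a (fpFst g f)) (BasedFunctor.comp (fpSnd a (fpFst g f)) (fpSnd g f))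
    (whiskerRightIso' (fpIso a (fpFst g f)) g ≪≫
      whiskerLeftIso' (fpSnd a (fpFst g f)) (fpIso g f))

lemma fpPaste_obj_iso (x : (fp a (fpFst g f)).obj) :
    ((fpPaste a g f).obj x).obj.iso.hom =
      g.map x.obj.iso.hom ≫ x.obj.snd.obj.iso.hom := rfl

lemma isEquivOver_fpPaste : IsEquivOver (fpPaste a g f) := by
  haveI : (fpPaste a g f).toFunctor.Faithful := ⟨fun {x y φ ψ} h => by
    have h₁ : φ.hom.fst = ψ.hom.fst := congrArg (fun t => t.hom.fst) h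
    have h₂ : φ.hom.snd.hom.snd = ψ.hom.snd.hom.snd := congrArg (fun t => t.hom.snd) h
    have w₁ : a.map φ.hom.fst ≫ y.obj.iso.hom = x.obj.iso.hom ≫ φ.hom.snd.hom.fst := φ.hom.w
    have w₂ : a.map ψ.hom.fst ≫ y.obj.iso.hom = x.obj.iso.hom ≫ ψ.hom.snd.hom.fst := ψ.hom.w
    refine fp_hom_ext h₁ (fp_hom_ext ?_ h₂)
    exact (cancel_epi x.obj.iso.hom).1
      (w₁.symm.trans ((congrArg (fun t => a.map t ≫ y.obj.iso.hom) h₁).trans w₂))⟩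
  haveI : (fpPaste a g f).toFunctor.Full := ⟨fun {x y} φ => by
    let v : x.obj.snd.obj.fst ⟶ y.obj.snd.obj.fst :=
      x.obj.iso.inv ≫ a.map φ.hom.fst ≫ y.obj.iso.hom
    have w : g.map (a.map φ.hom.fst) ≫ g.map y.obj.iso.hom ≫ y.obj.snd.obj.iso.hom =
        (g.map x.obj.iso.hom ≫ x.obj.snd.obj.iso.hom) ≫ f.map φ.hom.snd := φ.hom.w
    let inner : x.obj.snd ⟶ y.obj.snd := fpHom v φ.hom.snd
      (alg_paste g.toFunctor (a.map φ.hom.fst) x.obj.iso y.obj.iso _ _ _ w)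
    let out : x ⟶ y := fpHom φ.hom.fst inner (by
      change a.map φ.hom.fst ≫ y.obj.iso.hom = x.obj.iso.hom ≫ v
      exact (x.obj.iso.hom_inv_id_assoc _).symm)
    exact ⟨out, fp_hom_ext rfl rfl⟩⟩
  refine isEquivOver_of_vertEssSurj _ (fun η => ?_)
  haveI hη : 𝒴.p.IsHomLift (𝟙 (𝒯.p.obj η.obj.fst)) η.obj.iso.hom := η.property
  let z : (fp g f).obj := fpObj (a.obj η.obj.fst) η.obj.snd η.obj.iso
    (by rw [a.w_obj]; exact η.property)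
  let ξ : (fp a (fpFst g f)).obj := fpObj η.obj.fst z (Iso.refl (a.obj η.obj.fst))
    (IsHomLift.id (a.w_obj _))
  have w : g.map (a.map (𝟙 η.obj.fst)) ≫ η.obj.iso.hom =
      ((fpPaste a g f).obj ξ).obj.iso.hom ≫ f.map (𝟙 η.obj.snd) := by
    change _ = (g.map (𝟙 (a.obj η.obj.fst)) ≫ η.obj.iso.hom) ≫ f.map (𝟙 η.obj.snd)
    simp
  let e : (fpPaste a g f).obj ξ ≅ η :=
    fpIsoMk (x := (fpPaste a g f).obj ξ) (Iso.refl η.obj.fst) (Iso.refl η.obj.snd) w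
  haveI : 𝒯.p.IsHomLift (𝟙 (𝒯.p.obj η.obj.fst)) e.hom.hom.fst := IsHomLift.id rfl
  have h := isHomLift_of_fst (𝟙 (𝒯.p.obj η.obj.fst)) e.hom
  exact ⟨ξ, e, h⟩

lemma equivTo_fp_paste : EquivTo (fp a (fpFst g f)) (fp (BasedFunctor.comp a g) f) :=
  ⟨_, isEquivOver_fpPaste a g f⟩

end Paste

section CompRight

variable (G : 𝒯 ⥤ᵇ 𝒵) (f : 𝒳 ⥤ᵇ 𝒴) (g : 𝒴 ⥤ᵇ 𝒵)

/-- Fibre product with a composite as an iterated fibre product. -/
def fpCompRight : fp (fpSnd G g) f ⥤ᵇ fp G (BasedFunctor.comp f g) :=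
  fpLift (BasedFunctor.comp (fpFst (fpSnd G g) f) (fpFst G g)) (fpSnd (fpSnd G g) f)
    (whiskerLeftIso' (fpFst (fpSnd G g) f) (fpIso G g) ≪≫
      whiskerRightIso' (fpIso (fpSnd G g) f) g)

lemma isEquivOver_fpCompRight : IsEquivOver (fpCompRight G f g) := by
  haveI : (fpCompRight G f g).toFunctor.Faithful := ⟨fun {x y φ ψ} h => by
    have h₁ : φ.hom.fst.hom.fst = ψ.hom.fst.hom.fst := congrArg (fun t => t.hom.fst) h
    have h₂ : φ.hom.snd = ψ.hom.snd := congrArg (fun t => t.hom.snd) h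
    have w₁ : φ.hom.fst.hom.snd ≫ y.obj.iso.hom = x.obj.iso.hom ≫ f.map φ.hom.snd := φ.hom.w
    have w₂ : ψ.hom.fst.hom.snd ≫ y.obj.iso.hom = x.obj.iso.hom ≫ f.map ψ.hom.snd := ψ.hom.w
    refine fp_hom_ext (fp_hom_ext h₁ ?_) h₂
    exact (cancel_mono y.obj.iso.hom).1
      (w₁.trans ((congrArg (fun t => x.obj.iso.hom ≫ f.map t) h₂).trans w₂.symm))⟩
  haveI : (fpCompRight G f g).toFunctor.Full := ⟨fun {x y} φ => by
    let v : x.obj.fst.obj.snd ⟶ y.obj.fst.obj.snd :=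
      x.obj.iso.hom ≫ f.map φ.hom.snd ≫ y.obj.iso.inv
    have w : G.map φ.hom.fst ≫ y.obj.fst.obj.iso.hom ≫ g.map y.obj.iso.hom =
        (x.obj.fst.obj.iso.hom ≫ g.map x.obj.iso.hom) ≫ g.map (f.map φ.hom.snd) := φ.hom.w
    have hv : v ≫ y.obj.iso.hom = x.obj.iso.hom ≫ f.map φ.hom.snd :=
      (Category.assoc _ _ _).trans (congrArg (x.obj.iso.hom ≫ ·)
        ((Category.assoc _ _ _).trans ((congrArg (f.map φ.hom.snd ≫ ·) y.obj.iso.inv_hom_id).trans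
          (Category.comp_id _))))
    let inner : x.obj.fst ⟶ y.obj.fst := fpHom φ.hom.fst v
      (alg_comp g.toFunctor (G.map φ.hom.fst) x.obj.iso y.obj.iso _ _ (f.map φ.hom.snd) w)
    let out : x ⟶ y := fpHom inner φ.hom.snd (by exact hv)
    exact ⟨out, fp_hom_ext rfl rfl⟩⟩
  refine isEquivOver_of_vertEssSurj _ (fun η => ?_)
  haveI hη : 𝒵.p.IsHomLift (𝟙 (𝒯.p.obj η.obj.fst)) η.obj.iso.hom := η.property
  let z : (fp G g).obj := fpObj η.obj.fst (f.obj η.obj.snd) η.obj.iso η.property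
  let ξ : (fp (fpSnd G g) f).obj := fpObj z η.obj.snd (Iso.refl (f.obj η.obj.snd))
    (IsHomLift.id ((f.w_obj _).trans (obj_snd_eq η)))
  have w : G.map (𝟙 η.obj.fst) ≫ η.obj.iso.hom =
      ((fpCompRight G f g).obj ξ).obj.iso.hom ≫ g.map (f.map (𝟙 η.obj.snd)) := by
    change _ = (η.obj.iso.hom ≫ g.map (𝟙 (f.obj η.obj.snd))) ≫ g.map (f.map (𝟙 η.obj.snd))
    rw [G.toFunctor.map_id, f.toFunctor.map_id]
    erw [g.toFunctor.map_id]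
    simp
    exact (Category.comp_id (Y := g.obj (f.obj η.obj.snd)) η.obj.iso.hom).symm
  let e : (fpCompRight G f g).obj ξ ≅ η :=
    fpIsoMk (x := (fpCompRight G f g).obj ξ) (Iso.refl η.obj.fst) (Iso.refl η.obj.snd) w
  haveI : 𝒯.p.IsHomLift (𝟙 (𝒯.p.obj η.obj.fst)) e.hom.hom.fst := IsHomLift.id rfl
  have h := isHomLift_of_fst (𝟙 (𝒯.p.obj η.obj.fst)) e.hom
  exact ⟨ξ, e, h⟩

lemma equivTo_fp_comp : EquivTo (fp (fpSnd G g) f) (fp G (BasedFunctor.comp f g)) :=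
  ⟨_, isEquivOver_fpCompRight G f g⟩

end CompRight

section Magic

variable (a : 𝒯 ⥤ᵇ 𝒴) (b : 𝒳 ⥤ᵇ 𝒴) (g : 𝒴 ⥤ᵇ 𝒵)

/-- The map `𝒯 ×_𝒵 𝒳 ⟶ 𝒴 ×_𝒵 𝒴`. -/
def fpPair : fp (BasedFunctor.comp a g) (BasedFunctor.comp b g) ⥤ᵇ fp g g :=
  fpMap (a := a) (b := b) (c := BasedFunctor.id 𝒵) (F' := BasedFunctor.comp a g)
    (G' := BasedFunctor.comp b g) (Iso.refl _) (Iso.refl _)

lemma fpPair_obj_iso (x : (fp (BasedFunctor.comp a g) (BasedFunctor.comp b g)).obj) :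
    ((fpPair a b g).obj x).obj.iso.hom = x.obj.iso.hom := by
  unfold fpPair
  rw [fpMap_obj_iso]
  change 𝟙 _ ≫ x.obj.iso.hom ≫ 𝟙 _ = _
  simp

/-- The comparison from `𝒯 ×_𝒴 𝒳` to the pullback of the diagonal. -/
def fpMagicFun : (fp a b).obj ⥤ (fp (fpPair a b g) (diag g)).obj where
  obj x := fpObj
    (fpObj (F := BasedFunctor.comp a g) (G := BasedFunctor.comp b g) x.obj.fst x.obj.snd
      (g.toFunctor.mapIso x.obj.iso)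
      (by
        haveI : 𝒴.p.IsHomLift (𝟙 (𝒯.p.obj x.obj.fst)) x.obj.iso.hom := x.property
        exact @BasedFunctor.preserves_isHomLift _ _ _ _ g _ _ _ _ (𝟙 (𝒯.p.obj x.obj.fst))
          x.obj.iso.hom x.property))
    (b.obj x.obj.snd)
    (fpIsoMk (y := (diag g).obj (b.obj x.obj.snd)) x.obj.iso (Iso.refl (b.obj x.obj.snd))
      (by
        rw [fpPair_obj_iso]
        change g.map x.obj.iso.hom ≫ 𝟙 _ = g.map x.obj.iso.hom ≫ g.map (𝟙 _)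
        simp))
    (by
      haveI h : 𝒴.p.IsHomLift (𝟙 (𝒯.p.obj x.obj.fst)) x.obj.iso.hom := x.property
      exact IsHomLift.of_fac _ _ _ (a.w_obj x.obj.fst)
        (@IsHomLift.codomain_eq _ _ _ _ 𝒴.p _ _ _ _ (𝟙 (𝒯.p.obj x.obj.fst)) x.obj.iso.hom
          x.property)
        (@IsHomLift.fac _ _ _ _ 𝒴.p _ _ _ _ (𝟙 (𝒯.p.obj x.obj.fst)) x.obj.iso.hom x.property))
  map {x y} φ := fpHom
    (fpHom φ.hom.fst φ.hom.snd (by
      change g.map (a.map φ.hom.fst) ≫ g.map y.obj.iso.hom =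
        g.map x.obj.iso.hom ≫ g.map (b.map φ.hom.snd)
      rw [← g.toFunctor.map_comp, ← g.toFunctor.map_comp, φ.hom.w]))
    (b.map φ.hom.snd)
    (fp_hom_ext φ.hom.w ((Category.comp_id _).trans (Category.id_comp _).symm))
  map_id x := fp_hom_ext (fp_hom_ext rfl rfl) (b.toFunctor.map_id _)
  map_comp φ ψ := fp_hom_ext (fp_hom_ext rfl rfl) (b.toFunctor.map_comp _ _)

/-- The comparison from `𝒯 ×_𝒴 𝒳` to the pullback of the diagonal, over `C`. -/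
def fpMagic : fp a b ⥤ᵇ fp (fpPair a b g) (diag g) where
  toFunctor := fpMagicFun a b g
  w := rfl

lemma isEquivOver_fpMagic : IsEquivOver (fpMagic a b g) := by
  haveI : (fpMagic a b g).toFunctor.Faithful := ⟨fun {x y φ ψ} h =>
    fp_hom_ext (congrArg (fun t => t.hom.fst.hom.fst) h)
      (congrArg (fun t => t.hom.fst.hom.snd) h)⟩
  haveI : (fpMagic a b g).toFunctor.Full := ⟨fun {x y} φ => by
    have h := φ.hom.w
    have h₁ : a.map φ.hom.fst.hom.fst ≫ y.obj.iso.hom = x.obj.iso.hom ≫ φ.hom.snd :=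
      congrArg (fun t => t.hom.fst) h
    have h₂ : b.map φ.hom.fst.hom.snd ≫ 𝟙 (b.obj y.obj.snd) = 𝟙 (b.obj x.obj.snd) ≫ φ.hom.snd :=
      congrArg (fun t => t.hom.snd) h
    have h₃ : b.map φ.hom.fst.hom.snd = φ.hom.snd :=
      (Category.comp_id _).symm.trans (h₂.trans (Category.id_comp _))
    rw [← h₃] at h₁
    exact ⟨fpHom φ.hom.fst.hom.fst φ.hom.fst.hom.snd h₁, fp_hom_ext (fp_hom_ext rfl rfl) h₃⟩⟩
  refine isEquivOver_of_vertEssSurj _ (fun η => ?_)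
  obtain ⟨⟨z, s, k⟩, hk⟩ := η
  let h1 : a.obj z.obj.fst ≅ s := fstIso k
  let h2 : b.obj z.obj.snd ≅ s := sndIso k
  haveI hk' : (fp g g).p.IsHomLift (𝟙 (𝒯.p.obj z.obj.fst)) k.hom := hk
  haveI l1 : 𝒴.p.IsHomLift (𝟙 (𝒯.p.obj z.obj.fst)) h1.hom :=
    @isHomLift_fst _ _ _ _ _ _ _ _ _ (𝟙 (𝒯.p.obj z.obj.fst)) _ _ k.hom hk'
  haveI l2 : 𝒴.p.IsHomLift (𝟙 (𝒯.p.obj z.obj.fst)) h2.hom :=
    @isHomLift_snd _ _ _ _ _ _ _ _ _ (𝟙 (𝒯.p.obj z.obj.fst)) _ _ k.hom hk'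
  let x : (fp a b).obj := fpObj z.obj.fst z.obj.snd (h1 ≪≫ h2.symm) (by
    simp only [Iso.trans_hom, Iso.symm_hom]; infer_instance)
  have hw : g.map h1.hom = z.obj.iso.hom ≫ g.map h2.hom := by
    have h : g.map h1.hom ≫ 𝟙 (g.obj s) =
        ((fpPair a b g).obj z).obj.iso.hom ≫ g.map h2.hom := k.hom.hom.w
    rw [fpPair_obj_iso] at h
    exact (Category.comp_id _).symm.trans h
  have hz : g.map x.obj.iso.hom = z.obj.iso.hom := alg_magic g.toFunctor h1.hom h2 z.obj.iso.hom hw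
  let f₁ : ((fpMagic a b g).obj x).obj.fst ≅ z :=
    fpIsoMk (x := ((fpMagic a b g).obj x).obj.fst) (y := z) (Iso.refl z.obj.fst)
      (Iso.refl z.obj.snd) (by
        change g.map (a.map (𝟙 z.obj.fst)) ≫ z.obj.iso.hom =
          g.map x.obj.iso.hom ≫ g.map (b.map (𝟙 z.obj.snd))
        exact alg_magic' g.toFunctor hz _ _ (a.toFunctor.map_id _) (b.toFunctor.map_id _))
  have w : (fpPair a b g).map f₁.hom ≫ k.hom =
      ((fpMagic a b g).obj x).obj.iso.hom ≫ (diag g).map h2.hom := by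
    apply fp_hom_ext
    · change a.map (𝟙 z.obj.fst) ≫ h1.hom = (h1.hom ≫ h2.inv) ≫ h2.hom
      simp
    · change b.map (𝟙 z.obj.snd) ≫ h2.hom = 𝟙 (b.obj z.obj.snd) ≫ h2.hom
      simp
  let e : (fpMagic a b g).obj x ≅ ⟨⟨z, s, k⟩, hk⟩ :=
    fpIsoMk (x := (fpMagic a b g).obj x) (y := ⟨⟨z, s, k⟩, hk⟩) f₁ h2 w
  refine ⟨x, e, ?_⟩
  exact IsHomLift.of_fac _ _ e.hom rfl rfl (by
    change 𝟙 (𝒯.p.obj z.obj.fst) =
      𝟙 (𝒯.p.obj z.obj.fst) ≫ 𝒯.p.map (𝟙 z.obj.fst) ≫ 𝟙 (𝒯.p.obj z.obj.fst)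
    simp)

lemma equivTo_fp_magic : EquivTo (fp a b) (fp (fpPair a b g) (diag g)) :=
  ⟨_, isEquivOver_fpMagic a b g⟩

end Magic

end Constructions

end FibLib
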