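import Groth.Agent.FibLib.Yoneda
import Mathlib.CategoryTheory.Discrete.Basic
import Mathlib.CategoryTheory.IsomorphismClasses

/-!
# Categories fibred in sets / setoids, representability via a terminal object
-/

universe v₄ u₄ v₃ u₃ v₂ u₂ v u

set_option linter.style.haveILetI false

open CategoryTheory CategoryTheory.Limits FibCat
open CategoryTheory.Functor (Fiber IsPreFibered IsFibered IsStronglyCartesian IsCartesian)

namespace FibLib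

variable {C : Type u} [Category.{v} C]

section Plain

variable {X : Type u₂} [Category.{v₂} X] {p : X ⥤ C}

lemma hom_eq_of_thin [IsFibGrpd p] (h : ∀ U : C, Quiver.IsThin (p.Fiber U)) {R S : C} (f : R ⟶ S)
    {a b : X} (φ ψ : a ⟶ b) [p.IsHomLift f φ] [p.IsHomLift f ψ] : φ = ψ := by
  let χ := IsCartesian.map p f φ ψ
  have hχ : χ ≫ φ = ψ := IsCartesian.fac p f φ ψ
  have ha : p.obj a = R := IsHomLift.domain_eq p f φ
  let χ' : Fiber.mk ha ⟶ Fiber.mk ha := ⟨χ, IsCartesian.map_isHomLift p f φ ψ⟩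
  have : χ = 𝟙 a := congrArg Subtype.val (@Subsingleton.elim _ (h R _ _) χ' (𝟙 _))
  rw [← hχ, this, Category.id_comp]

lemma isFibSet_of_unique
    (h : ∀ (η : X) (U : C) (f : U ⟶ p.obj η), ∃! φ : (Σ ξ : X, (ξ ⟶ η)), p.IsHomLift f φ.2) :
    IsFibSet p := by
  have key : ∀ {a b η : X} {R S : C} (f : R ⟶ S) (φ : a ⟶ η) (ψ : b ⟶ η),
      p.IsHomLift f φ → p.IsHomLift f ψ → (⟨a, φ⟩ : Σ ξ : X, (ξ ⟶ η)) = ⟨b, ψ⟩ := by
    intro a b η R S f φ ψ h₁ h₂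
    have hS : p.obj η = S := @IsHomLift.codomain_eq _ _ _ _ p _ _ _ _ f φ h₁
    subst hS
    exact (h η R f).unique (y₁ := ⟨a, φ⟩) (y₂ := ⟨b, ψ⟩) h₁ h₂
  refine ⟨⟨fun {x V} f => ?_, fun {y x} φ => ?_⟩, fun U => ⟨fun a b => ⟨fun φ ψ => ?_⟩,
    fun {a b} φ => ?_⟩⟩
  · obtain ⟨⟨y, φ⟩, hφ, -⟩ := h x V f
    exact ⟨y, φ, hφ⟩
  · constructor
    intro z g ψ hψ
    obtain ⟨⟨z', χ⟩, hχ, -⟩ := h y _ g
    have hc : p.IsHomLift (g ≫ p.map φ) (χ ≫ φ) :=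
      @IsHomLift.comp _ _ _ _ p _ _ _ _ _ _ g (p.map φ) χ φ hχ (IsHomLift.map p φ)
    obtain ⟨rfl, h₂⟩ := Sigma.mk.inj_iff.mp (key _ (χ ≫ φ) ψ hc hψ)
    refine ⟨χ, ⟨hχ, eq_of_heq h₂⟩, ?_⟩
    rintro χ' ⟨hχ', -⟩
    exact eq_of_heq (Sigma.mk.inj_iff.mp (key g χ' χ hχ' hχ)).2
  · exact Subtype.ext (eq_of_heq (Sigma.mk.inj_iff.mp (key (𝟙 U) φ.1 ψ.1 φ.2 ψ.2)).2)
  · exact Subtype.ext (Sigma.mk.inj_iff.mp (key (𝟙 U) φ.1 (𝟙 b.1) φ.2 (IsHomLift.id b.2))).1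

lemma unique_lift_of_isFibSet (h : IsFibSet p) (η : X) (U : C) (f : U ⟶ p.obj η) :
    ∃! φ : (Σ ξ : X, (ξ ⟶ η)), p.IsHomLift f φ.2 := by
  haveI := h.1
  obtain ⟨y, φ, hφ⟩ := IsFibGrpd.exists_lift (p := p) f
  refine ⟨⟨y, φ⟩, hφ, ?_⟩
  rintro ⟨z, ψ⟩ hψ
  haveI : p.IsHomLift f ψ := hψ
  haveI : p.IsHomLift f φ := hφ
  have hy : p.obj y = U := IsHomLift.domain_eq p f φ
  have hz : p.obj z = U := IsHomLift.domain_eq p f ψ
  let χ := IsCartesian.map p f φ ψ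
  have hχ : p.IsHomLift (𝟙 U) χ := IsCartesian.map_isHomLift p f φ ψ
  obtain rfl : z = y := congrArg Subtype.val (@obj_ext_of_isDiscrete (p.Fiber U) _ (h.2 U)
    (Fiber.mk hz) (Fiber.mk hy) ⟨χ, hχ⟩)
  refine congrArg (Sigma.mk z) ?_
  exact @hom_eq_of_thin _ _ _ _ _ h.1 (fun V => (h.2 V).subsingleton) _ _ f _ _ ψ φ hψ hφ

lemma isFibSet_iff : IsFibSet p ↔
    ∀ (η : X) (U : C) (f : U ⟶ p.obj η), ∃! φ : (Σ ξ : X, (ξ ⟶ η)), p.IsHomLift f φ.2 :=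
  ⟨unique_lift_of_isFibSet, isFibSet_of_unique⟩

lemma isFibSet_lift_eq (h : IsFibSet p) {a b η : X} {R S : C} (f : R ⟶ S) (φ : a ⟶ η) (ψ : b ⟶ η)
    [p.IsHomLift f φ] [p.IsHomLift f ψ] : (⟨a, φ⟩ : Σ ξ : X, (ξ ⟶ η)) = ⟨b, ψ⟩ := by
  have hS : p.obj η = S := IsHomLift.codomain_eq p f φ
  subst hS
  exact (unique_lift_of_isFibSet h η R f).unique (y₁ := ⟨a, φ⟩) (y₂ := ⟨b, ψ⟩) ‹_› ‹_›

lemma isFibSetoid_of_isFibSet (h : IsFibSet p) : IsFibSetoid p :=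
  ⟨h.1, fun U => (h.2 U).subsingleton⟩

end Plain

section OverFibSet

variable {A : Type u₂} [Category.{v₂} A] {B : Type u₃} [Category.{v₃} B]
  {F : A ⥤ B} {G : B ⥤ C}

lemma isHomLift_of_comp (hG : IsFibSet G) {a b : A} {x y : B} (f : x ⟶ y) (φ : a ⟶ b)
    (hb : F.obj b = y) [(F ⋙ G).IsHomLift (G.map f) φ] : F.IsHomLift f φ := by
  subst hb
  haveI : G.IsHomLift (G.map f) (F.map φ) :=
    IsHomLift.of_fac _ _ _ (IsHomLift.domain_eq (F ⋙ G) (G.map f) φ)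
      (IsHomLift.codomain_eq (F ⋙ G) (G.map f) φ) (IsHomLift.fac (F ⋙ G) (G.map f) φ)
  haveI : G.IsHomLift (G.map f) f := IsHomLift.map _ _
  obtain ⟨e, h⟩ := Sigma.mk.inj_iff.mp (isFibSet_lift_eq hG (G.map f) (F.map φ) f)
  subst e
  rw [← eq_of_heq h]
  exact IsHomLift.map F φ

lemma isHomLift_comp {a b : A} {x y : B} (f : x ⟶ y) (φ : a ⟶ b) [F.IsHomLift f φ] :
    (F ⋙ G).IsHomLift (G.map f) φ := by
  subst_hom_lift F f φ
  exact IsHomLift.map (F ⋙ G) φ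

lemma isStronglyCartesian_of_comp (hG : IsFibSet G) {a b : A} {x y : B} (f : x ⟶ y) (φ : a ⟶ b)
    [F.IsHomLift f φ] [(F ⋙ G).IsStronglyCartesian (G.map f) φ] : F.IsStronglyCartesian f φ := by
  constructor
  intro z g ψ hψ
  haveI : (F ⋙ G).IsHomLift (G.map g ≫ G.map f) ψ := by
    rw [← G.map_comp]; exact isHomLift_comp (g ≫ f) ψ
  let χ := IsStronglyCartesian.map (F ⋙ G) (G.map f) φ (g := G.map g) rfl ψ
  refine ⟨χ, ⟨isHomLift_of_comp hG g χ (IsHomLift.domain_eq F f φ),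
    IsStronglyCartesian.fac _ _ _ _ _⟩, ?_⟩
  rintro χ' ⟨hχ', hχ''⟩
  haveI : (F ⋙ G).IsHomLift (G.map g) χ' := isHomLift_comp g χ'
  exact IsStronglyCartesian.map_uniq (F ⋙ G) (G.map f) φ (g := G.map g) rfl ψ χ' hχ''

lemma exists_stronglyCartesian_of_comp (hG : IsFibSet G) [(F ⋙ G).IsFibered] (a : A) (R : B)
    (f : R ⟶ F.obj a) : ∃ (b : A) (φ : b ⟶ a), F.IsStronglyCartesian f φ := by
  obtain ⟨b, φ, hφ⟩ := exists_stronglyCartesian (F ⋙ G) (R := G.obj R) (S := G.obj (F.obj a))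
    (a := a) rfl (G.map f)
  haveI := isHomLift_of_comp hG f φ rfl
  exact ⟨b, φ, isStronglyCartesian_of_comp hG f φ⟩

lemma isFibered_iff_comp (hG : IsFibSet G) : F.IsFibered ↔ (F ⋙ G).IsFibered := by
  haveI := hG.1
  exact ⟨fun _ => isFibered_comp F G,
    fun _ => IsFibered.of_exists_isStronglyCartesian (exists_stronglyCartesian_of_comp hG)⟩

lemma isFibGrpd_iff_comp (hG : IsFibSet G) : IsFibGrpd F ↔ IsFibGrpd (F ⋙ G) := by
  haveI := hG.1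
  refine ⟨fun _ => isFibGrpd_comp F G, fun _ => ⟨fun {x V} f => ?_, fun {y x} φ => ?_⟩⟩
  · obtain ⟨b, φ, hφ⟩ := exists_stronglyCartesian_of_comp hG x V f
    exact ⟨b, φ, hφ.toIsHomLift⟩
  · haveI : (F ⋙ G).IsStronglyCartesian (G.map (F.map φ)) φ :=
      IsFibGrpd.isStronglyCartesian (p := F ⋙ G) φ
    exact isStronglyCartesian_of_comp hG (F.map φ) φ

lemma isFibSet_iff_comp (hG : IsFibSet G) : IsFibSet F ↔ IsFibSet (F ⋙ G) := by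
  refine ⟨fun hF => isFibSet_of_unique fun η U f => ?_, fun hFG => isFibSet_of_unique fun η R f => ?_⟩
  · obtain ⟨⟨m, f'⟩, hf', huniq⟩ := unique_lift_of_isFibSet hG (F.obj η) U f
    obtain ⟨⟨a, φ⟩, hφ, -⟩ := unique_lift_of_isFibSet hF η m f'
    haveI : F.IsHomLift f' φ := hφ
    haveI : G.IsHomLift f f' := hf'
    have hc : ∀ {a : A} (φ : a ⟶ η), G.IsHomLift f (F.map φ) ↔ (F ⋙ G).IsHomLift f φ :=
      fun {a} φ => ⟨fun _ => IsHomLift.of_fac _ _ _ (IsHomLift.domain_eq G f (F.map φ))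
          (IsHomLift.codomain_eq G f (F.map φ)) (IsHomLift.fac G f (F.map φ)),
        fun _ => IsHomLift.of_fac _ _ _ (IsHomLift.domain_eq (F ⋙ G) f φ)
          (IsHomLift.codomain_eq (F ⋙ G) f φ) (IsHomLift.fac (F ⋙ G) f φ)⟩
    refine ⟨⟨a, φ⟩, (hc φ).mp ?_, ?_⟩
    · have e := IsHomLift.fac' F f' φ
      rw [e]
      simp only [eqToHom_refl, Category.comp_id]
      infer_instance
    · rintro ⟨b, ψ⟩ hψ
      have h := huniq ⟨F.obj b, F.map ψ⟩ ((hc ψ).mpr hψ)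
      obtain ⟨e, h'⟩ := Sigma.mk.inj_iff.mp h
      subst e
      rw [← eq_of_heq h'] at hφ
      haveI : F.IsHomLift (F.map ψ) φ := hφ
      haveI : F.IsHomLift (F.map ψ) ψ := IsHomLift.map _ _
      exact isFibSet_lift_eq hF (F.map ψ) ψ φ
  · obtain ⟨⟨a, φ⟩, hφ, -⟩ := unique_lift_of_isFibSet hFG η (G.obj R) (G.map f)
    haveI : (F ⋙ G).IsHomLift (G.map f) φ := hφ
    refine ⟨⟨a, φ⟩, isHomLift_of_comp hG f φ rfl, ?_⟩
    rintro ⟨b, ψ⟩ hψ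
    haveI : F.IsHomLift f ψ := hψ
    haveI : (F ⋙ G).IsHomLift (G.map f) ψ := isHomLift_comp f ψ
    exact isFibSet_lift_eq hFG (G.map f) ψ φ

end OverFibSet

section Based

variable {𝒳 : BasedCategory.{v₂, u₂} C} {𝒴 : BasedCategory.{v₃, u₃} C}

lemma basedNatTrans_eq_eqToHom (h𝒴 : IsFibSet 𝒴.p) {F G : 𝒳 ⥤ᵇ 𝒴} (α : F ⟶ G) :
    ∃ h : F = G, α = eqToHom h := by
  haveI := h𝒴.1
  have hth : ∀ U : C, Quiver.IsThin (𝒴.p.Fiber U) := fun U => (h𝒴.2 U).subsingleton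
  have hobj : ∀ a, F.obj a = G.obj a := fun a => by
    exact congrArg Subtype.val (@obj_ext_of_isDiscrete (𝒴.p.Fiber (𝒳.p.obj a)) _
      (h𝒴.2 (𝒳.p.obj a)) (Fiber.mk (F.w_obj a)) (Fiber.mk (G.w_obj a))
      ⟨α.toNatTrans.app a, α.isHomLift' a⟩)
  have hα : ∀ a, α.toNatTrans.app a = eqToHom (hobj a) := fun a => by
    haveI : 𝒴.p.IsHomLift (𝟙 (𝒳.p.obj a)) (eqToHom (hobj a)) :=
      IsHomLift.eqToHom_domain_lift_id (hobj a) (F.w_obj a)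
    exact hom_eq_of_thin hth (𝟙 (𝒳.p.obj a)) _ _
  have hF : F = G := by
    obtain ⟨F₀, wF⟩ := F
    obtain ⟨G₀, wG⟩ := G
    obtain rfl : F₀ = G₀ := CategoryTheory.Functor.ext hobj (fun a b f => by
      have h := α.toNatTrans.naturality f
      rw [hα, hα] at h
      rw [← reassoc_of% h]
      simp)
    rfl
  subst hF
  exact ⟨rfl, BasedNatTrans.homCategory.ext _ _ (NatTrans.ext (funext fun a => by
    rw [hα a]; rfl))⟩

lemma nonempty_unique_iso (h𝒴 : IsFibSetoid 𝒴.p) (f g : 𝒳 ⥤ᵇ 𝒴)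
    (hfg : ∀ (U : C) (x : 𝒳.p.Fiber U),
      Nonempty ((fiberFunctor f U).obj x ≅ (fiberFunctor g U).obj x)) :
    Nonempty (Unique (f ≅ g)) := by
  haveI := h𝒴.1
  have e := hfg
  let c : ∀ a, f.obj a ≅ g.obj a := fun a =>
    Fiber.fiberInclusion.mapIso (e (𝒳.p.obj a) (Fiber.mk rfl)).some
  have hc : ∀ a, 𝒴.p.IsHomLift (𝟙 (𝒳.p.obj a)) (c a).hom := fun a =>
    (e (𝒳.p.obj a) (Fiber.mk rfl)).some.hom.2
  let i : f ≅ g := BasedNatIso.mkNatIso (NatIso.ofComponents c (fun {a b} φ => by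
    haveI := hc a
    haveI := hc b
    exact hom_eq_of_thin h𝒴.2 (𝒳.p.map φ) _ _)) hc
  refine ⟨⟨⟨i⟩, fun j => Iso.ext (BasedNatTrans.homCategory.ext _ _
    (NatTrans.ext (funext fun a => ?_)))⟩⟩
  haveI := j.hom.isHomLift' a
  haveI := i.hom.isHomLift' a
  exact hom_eq_of_thin h𝒴.2 (𝟙 (𝒳.p.obj a)) _ _

lemma isGroupoid_fiber_of_isEquivOver {G : 𝒳 ⥤ᵇ 𝒴} (hG : IsEquivOver G) [IsFibGrpd 𝒴.p] (U : C) :
    IsGroupoid (𝒳.p.Fiber U) := by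
  haveI := fiberFunctor_isEquivalence hG U
  haveI := isGroupoid_fiber 𝒴.p U
  exact ⟨fun φ => isIso_of_fully_faithful (fiberFunctor G U) φ⟩

lemma isFibGrpd_of_isEquivOver {G : 𝒳 ⥤ᵇ 𝒴} (hG : IsEquivOver G) [IsFibGrpd 𝒴.p] :
    IsFibGrpd 𝒳.p := by
  haveI := (isFibered_iff_of_isEquivOver hG).mpr inferInstance
  exact isFibGrpd_of_isFibered 𝒳.p (isGroupoid_fiber_of_isEquivOver hG)

lemma isFibSetoid_of_isEquivOver (h𝒴 : IsFibSetoid 𝒴.p) {G : 𝒳 ⥤ᵇ 𝒴} (hG : IsEquivOver G) :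
    IsFibSetoid 𝒳.p := by
  haveI := h𝒴.1
  refine ⟨isFibGrpd_of_isEquivOver hG, fun U a b => ⟨fun φ ψ => ?_⟩⟩
  haveI := fiberFunctor_isEquivalence hG U
  exact (fiberFunctor G U).map_injective (@Subsingleton.elim _ (h𝒴.2 U _ _) _ _)

end Based

section Quot

variable (𝒳 : BasedCategory.{v₂, u₂} C)

/-- Isomorphism classes of a fibre. -/
def FibClass (U : C) : Type u₂ := Quotient (isIsomorphicSetoid (𝒳.p.Fiber U))

/-- The class of a point. -/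
def fibClass {U : C} (x : 𝒳.p.Fiber U) : FibClass 𝒳 U := Quotient.mk _ x

/-- A representative of a class. -/
noncomputable def fibRep {U : C} (q : FibClass 𝒳 U) : 𝒳.p.Fiber U := Quotient.out q

lemma fibClass_fibRep {U : C} (q : FibClass 𝒳 U) : fibClass 𝒳 (fibRep 𝒳 q) = q := Quotient.out_eq q

lemma nonempty_fibRep_iso {U : C} (x : 𝒳.p.Fiber U) :
    Nonempty (fibRep 𝒳 (fibClass 𝒳 x) ≅ x) :=
  @Quotient.mk_out _ (isIsomorphicSetoid _) x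

/-- The objects of the category of classes. -/
structure QuotObj where
  /-- the base object -/
  base : C
  /-- the class -/
  cls : FibClass 𝒳 base

instance : Category.{v} (QuotObj 𝒳) where
  Hom x y := {f : x.base ⟶ y.base //
    ∃ φ : (fibRep 𝒳 x.cls).1 ⟶ (fibRep 𝒳 y.cls).1, 𝒳.p.IsHomLift f φ}
  id x := ⟨𝟙 _, 𝟙 _, IsHomLift.id (fibRep 𝒳 x.cls).2⟩
  comp f g := ⟨f.1 ≫ g.1, by
    obtain ⟨f, φ, hφ⟩ := f
    obtain ⟨g, ψ, hψ⟩ := g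
    exact ⟨φ ≫ ψ, inferInstance⟩⟩
  id_comp f := Subtype.ext (Category.id_comp _)
  comp_id f := Subtype.ext (Category.comp_id _)
  assoc f g h := Subtype.ext (Category.assoc _ _ _)

/-- The base morphism. -/
def QuotObj.baseMap {x y : QuotObj 𝒳} (f : x ⟶ y) : x.base ⟶ y.base := Subtype.val f

/-- The category of classes over the base. -/
abbrev quotCat : BasedCategory.{v, max u u₂} C where
  obj := QuotObj 𝒳
  p :=
    { obj := fun x => x.base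
      map := fun f => QuotObj.baseMap 𝒳 f }

variable {𝒳}

/-- The projection to the classes. -/
noncomputable def toQuot : 𝒳 ⥤ᵇ quotCat 𝒳 where
  toFunctor :=
    { obj := fun x => ⟨𝒳.p.obj x, fibClass 𝒳 (Fiber.mk rfl)⟩
      map := fun {x y} φ => ⟨𝒳.p.map φ, by
        obtain ⟨a⟩ := nonempty_fibRep_iso 𝒳 (Fiber.mk (p := 𝒳.p) (a := x) rfl)
        obtain ⟨b⟩ := nonempty_fibRep_iso 𝒳 (Fiber.mk (p := 𝒳.p) (a := y) rfl)
        haveI := a.hom.2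
        haveI := b.inv.2
        refine ⟨a.hom.1 ≫ φ ≫ b.inv.1, ?_⟩
        haveI : 𝒳.p.IsHomLift (𝒳.p.map φ) (φ ≫ b.inv.1) :=
          @IsHomLift.comp_lift_id_right _ _ _ _ 𝒳.p _ _ _ _ _ (𝒳.p.map φ) φ (IsHomLift.map _ _)
            b.inv.1 b.inv.2
        exact @IsHomLift.comp_lift_id_left _ _ _ _ 𝒳.p _ _ _ _ _ (𝒳.p.map φ) _ this a.hom.1 a.hom.2⟩
      map_id := fun x => Subtype.ext (𝒳.p.map_id x)
      map_comp := fun φ ψ => Subtype.ext (𝒳.p.map_comp φ ψ) }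
  w := rfl

lemma isFibSet_quotCat [IsFibGrpd 𝒳.p] : IsFibSet (quotCat 𝒳).p := by
  refine isFibSet_of_unique fun η U f₀ => ?_
  obtain ⟨f, rfl⟩ : ∃ f : U ⟶ η.base, f = f₀ := ⟨f₀, rfl⟩
  obtain ⟨x, φ, hφ⟩ := exists_lift 𝒳.p (fibRep 𝒳 η.cls).2 f
  have hx : 𝒳.p.obj x = U := IsHomLift.domain_eq 𝒳.p f φ
  let c : QuotObj 𝒳 := ⟨U, fibClass 𝒳 (Fiber.mk hx)⟩
  obtain ⟨a⟩ := nonempty_fibRep_iso 𝒳 (Fiber.mk (p := 𝒳.p) hx)
  let m : c ⟶ η := ⟨f, a.hom.1 ≫ φ,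
    @IsHomLift.comp_lift_id_left _ _ _ _ 𝒳.p _ _ _ _ _ f φ hφ a.hom.1 a.hom.2⟩
  refine ⟨⟨c, m⟩, IsHomLift.map (quotCat 𝒳).p m, ?_⟩
  rintro ⟨d, n⟩ hn
  haveI : (quotCat 𝒳).p.IsHomLift f n := hn
  have hd : d.base = U := IsHomLift.domain_eq (quotCat 𝒳).p f n
  obtain ⟨dU, dc⟩ := d
  change dU = U at hd
  subst hd
  obtain rfl : f = n.1 := IsHomLift.eq_of_isHomLift (quotCat 𝒳).p f n
  obtain ⟨g, ψ, hψ⟩ := n
  haveI : 𝒳.p.IsHomLift g φ := hφ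
  haveI := hψ
  let χ : fibRep 𝒳 dc ⟶ Fiber.mk hx :=
    ⟨IsCartesian.map 𝒳.p g φ ψ, IsCartesian.map_isHomLift 𝒳.p g φ ψ⟩
  haveI := isGroupoid_fiber 𝒳.p dU
  have hc : dc = fibClass 𝒳 (Fiber.mk hx) := by
    rw [← fibClass_fibRep 𝒳 dc]
    exact Quotient.sound ⟨asIso χ⟩
  subst hc
  rfl

lemma isEquivOver_toQuot (h : IsFibSetoid 𝒳.p) : IsEquivOver (toQuot (𝒳 := 𝒳)) := by
  haveI := h.1
  haveI : (toQuot (𝒳 := 𝒳)).toFunctor.Faithful := ⟨fun {x y φ ψ} e => by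
    have he : 𝒳.p.map φ = 𝒳.p.map ψ := congrArg Subtype.val e
    haveI : 𝒳.p.IsHomLift (𝒳.p.map φ) ψ := he ▸ IsHomLift.map _ _
    exact hom_eq_of_thin h.2 (𝒳.p.map φ) φ ψ⟩
  haveI : (toQuot (𝒳 := 𝒳)).toFunctor.Full := ⟨fun {x y} φ => by
    obtain ⟨f, ψ, hψ⟩ := φ
    obtain ⟨a⟩ := nonempty_fibRep_iso 𝒳 (Fiber.mk (p := 𝒳.p) (a := x) rfl)
    obtain ⟨b⟩ := nonempty_fibRep_iso 𝒳 (Fiber.mk (p := 𝒳.p) (a := y) rfl)
    let m : x ⟶ y := a.inv.1 ≫ ψ ≫ b.hom.1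
    haveI : 𝒳.p.IsHomLift f (ψ ≫ b.hom.1) :=
      @IsHomLift.comp_lift_id_right _ _ _ _ 𝒳.p _ _ _ _ _ f ψ hψ b.hom.1 b.hom.2
    haveI : 𝒳.p.IsHomLift f m :=
      @IsHomLift.comp_lift_id_left _ _ _ _ 𝒳.p _ _ _ _ _ f (ψ ≫ b.hom.1) this a.inv.1 a.inv.2
    exact ⟨m, Subtype.ext (@IsHomLift.eq_of_isHomLift _ _ _ _ 𝒳.p _ _ f m this).symm⟩⟩
  refine isEquivOver_of_vertEssSurj _ (fun η => ?_)
  obtain ⟨U, q⟩ := η
  obtain ⟨⟨x, hx⟩, rfl⟩ : ∃ x, fibClass 𝒳 x = q := ⟨_, fibClass_fibRep 𝒳 q⟩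
  subst hx
  exact ⟨x, Iso.refl _, IsHomLift.id rfl⟩

end Quot

section Representable

variable {𝒳 : BasedCategory.{v₂, u₂} C}

lemma exists_terminal_of_isRepresentable (h : IsRepresentable 𝒳) :
    IsFibGrpd 𝒳.p ∧ ∃ ξ : 𝒳.obj, ∀ ρ : 𝒳.obj, Nonempty (Unique (ρ ⟶ ξ)) := by
  obtain ⟨U, F, hF⟩ := h
  refine ⟨isFibGrpd_of_isEquivOver hF, ?_⟩
  haveI := isEquivalence_of_isEquivOver hF
  obtain ⟨ξ, e, -⟩ := vertEssSurj_of_isEquivOver hF (Over.mk (𝟙 U))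
  refine ⟨ξ, fun ρ => ⟨?_⟩⟩
  let T : IsTerminal (F.obj ξ) := IsTerminal.ofIso Over.mkIdTerminal e.symm
  exact ⟨⟨F.toFunctor.preimage (T.from (F.obj ρ))⟩,
    fun a => F.toFunctor.map_injective (T.hom_ext _ _)⟩

lemma isRepresentable_of_terminal [IsFibGrpd 𝒳.p] {ξ : 𝒳.obj}
    (hξ : ∀ ρ : 𝒳.obj, Nonempty (Unique (ρ ⟶ ξ))) : IsRepresentable 𝒳 := by
  have hu : ∀ {ρ : 𝒳.obj} (a b : ρ ⟶ ξ), a = b := fun {ρ} a b => by
    haveI := (hξ ρ).some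
    exact Subsingleton.elim a b
  let U := 𝒳.p.obj ξ
  let x : 𝒳.p.Fiber U := Fiber.mk rfl
  let F := ofPoint x
  haveI : F.toFunctor.Faithful := ⟨fun {S T m m'} e => by
    apply Over.OverMorphism.ext
    have h₁ : 𝒳.p.IsHomLift m.left (F.map m) := lift_map F m
    have h₂ : 𝒳.p.IsHomLift m'.left (F.map m') := lift_map F m'
    have e' : F.map m = F.map m' := e
    rw [e'] at h₁
    exact (@IsHomLift.fac _ _ _ _ 𝒳.p _ _ _ _ m.left (F.map m') h₁).trans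
      (@IsHomLift.fac _ _ _ _ 𝒳.p _ _ _ _ m'.left (F.map m') h₂).symm⟩
  haveI : F.toFunctor.Full := ⟨fun {S T} k => by
    have hS : 𝒳.p.obj (F.obj S) = S.left := F.w_obj S
    have hT : 𝒳.p.obj (F.obj T) = T.left := F.w_obj T
    let g : S.left ⟶ T.left := eqToHom hS.symm ≫ 𝒳.p.map k ≫ eqToHom hT
    haveI hk : 𝒳.p.IsHomLift g k := IsHomLift.of_fac _ _ _ hS hT rfl
    let pS : F.obj S ⟶ ξ := IsPreFibered.pullbackMap x.2 S.hom
    let pT : F.obj T ⟶ ξ := IsPreFibered.pullbackMap x.2 T.hom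
    haveI hpS : 𝒳.p.IsHomLift S.hom pS :=
      inferInstanceAs (𝒳.p.IsHomLift S.hom (IsPreFibered.pullbackMap x.2 S.hom))
    haveI hpT : 𝒳.p.IsHomLift T.hom pT :=
      inferInstanceAs (𝒳.p.IsHomLift T.hom (IsPreFibered.pullbackMap x.2 T.hom))
    have h : k ≫ pT = pS := hu _ _
    have hw : g ≫ T.hom = S.hom := by
      have h1 : 𝒳.p.IsHomLift (g ≫ T.hom) pS := h ▸ inferInstance
      exact (@IsHomLift.fac _ _ _ _ 𝒳.p _ _ _ _ (g ≫ T.hom) pS h1).trans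
        (@IsHomLift.fac _ _ _ _ 𝒳.p _ _ _ _ S.hom pS hpS).symm
    let m : S ⟶ T := Over.homMk g hw
    haveI : 𝒳.p.IsHomLift g (F.map m) := lift_map F m
    refine ⟨m, ?_⟩
    apply IsStronglyCartesian.ext 𝒳.p T.hom pT g
    exact hu _ _⟩
  have hF : IsEquivOver F := by
    refine isEquivOver_of_vertEssSurj _ (fun η => ?_)
    let m : η ⟶ ξ := (hξ η).some.default
    let T : Over U := Over.mk (𝒳.p.map m)
    let pT : F.obj T ⟶ ξ := IsPreFibered.pullbackMap x.2 T.hom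
    haveI : 𝒳.p.IsHomLift (𝒳.p.map m) pT :=
      inferInstanceAs (𝒳.p.IsHomLift T.hom (IsPreFibered.pullbackMap x.2 T.hom))
    exact ⟨T, IsCartesian.domainUniqueUpToIso 𝒳.p (𝒳.p.map m) m pT,
      IsCartesian.domainUniqueUpToIso_inv_isHomLift 𝒳.p (𝒳.p.map m) m pT⟩
  exact ⟨U, isEquivOver_symm hF⟩

end Representable

section Unique'

lemma overMap_iso_inj {A B : C} {f g : A ⟶ B} (i : overMap f ≅ overMap g) : f = g := by
  let T : Over A := Over.mk (𝟙 A)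
  let a : (overMap f).obj T ⟶ (overMap g).obj T := i.hom.toNatTrans.app T
  have hlift : (Over.forget B).IsHomLift (𝟙 A) a := i.hom.isHomLift' T
  have h1 : a.left = 𝟙 A := by
    have := @IsHomLift.fac' _ _ _ _ (Over.forget B) _ _ _ _ (𝟙 A) a hlift
    change a.left = _ at this
    rw [this]
    exact (Category.id_comp _).trans (Category.id_comp _)
  have h2 : a.left ≫ 𝟙 A ≫ g = 𝟙 A ≫ f := Over.w a
  rw [h1] at h2
  exact (((Category.id_comp _).trans (Category.id_comp _)).symm.trans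
    (h2.trans (Category.id_comp _))).symm

end Unique'

end FibLib
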