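import Groth.Agent.FibLib.Fp

/-!
# The 2-Yoneda lemma for fibred categories
-/

universe v₂ u₂ v u

set_option linter.style.haveILetI false

open CategoryTheory FibCat
open CategoryTheory.Functor (Fiber IsPreFibered IsFibered IsStronglyCartesian IsCartesian)

namespace FibLib

variable {C : Type u} [Category.{v} C] {𝒳 : BasedCategory.{v₂, u₂} C} {U : C}

/-- The morphism of `C/U` to the identity of `U`. -/
def toId (T : Over U) : T ⟶ Over.mk (𝟙 U) := Over.homMk T.hom (Category.comp_id _)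

@[simp] lemma toId_left (T : Over U) : (toId T).left = T.hom := rfl

lemma comp_toId {S T : Over U} (m : S ⟶ T) : m ≫ toId T = toId S := by
  apply Over.OverMorphism.ext
  simp

lemma lift_map (G : overCat U ⥤ᵇ 𝒳) {S T : Over U} (m : S ⟶ T) :
    𝒳.p.IsHomLift m.left (G.map m) :=
  @BasedFunctor.preserves_isHomLift _ _ _ _ G _ _ S T m.left m (IsHomLift.map (Over.forget U) m)

lemma stronglyCartesian_map {H : overCat U ⥤ᵇ 𝒳} (hH : PreservesStronglyCartesian H)
    {S T : Over U} (m : S ⟶ T) : 𝒳.p.IsStronglyCartesian m.left (H.map m) :=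
  hH _ m (IsFibGrpd.isStronglyCartesian (p := (overCat U).p) m)

variable {G H : overCat U ⥤ᵇ 𝒳}

section

variable (hH : PreservesStronglyCartesian H)
  (β : G.obj (Over.mk (𝟙 U)) ⟶ H.obj (Over.mk (𝟙 U))) [𝒳.p.IsHomLift (𝟙 U) β]

include hH in
lemma exists_app (T : Over U) :
    ∃! α : G.obj T ⟶ H.obj T,
      𝒳.p.IsHomLift (𝟙 T.left) α ∧ α ≫ H.map (toId T) = G.map (toId T) ≫ β := by
  haveI : 𝒳.p.IsStronglyCartesian T.hom (H.map (toId T)) := stronglyCartesian_map hH (toId T)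
  haveI : 𝒳.p.IsHomLift T.hom (G.map (toId T)) := lift_map G (toId T)
  haveI : 𝒳.p.IsHomLift T.hom (G.map (toId T) ≫ β) :=
    IsHomLift.comp_lift_id_right 𝒳.p T.hom (G.map (toId T)) β
  exact IsStronglyCartesian.universal_property 𝒳.p T.hom (H.map (toId T)) (𝟙 T.left) T.hom
    (Category.id_comp _).symm _

/-- The 2-morphism with prescribed value at the identity. -/
noncomputable def natTransOfId : G ⟶ H where
  toNatTrans :=
    { app := fun T => (exists_app hH β T).exists.choose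
      naturality := fun S T m => by
        obtain ⟨hS, hS'⟩ := (exists_app hH β S).exists.choose_spec
        obtain ⟨hT, hT'⟩ := (exists_app hH β T).exists.choose_spec
        haveI : 𝒳.p.IsStronglyCartesian T.hom (H.map (toId T)) := stronglyCartesian_map hH (toId T)
        haveI := lift_map G m
        haveI := lift_map H m
        haveI : 𝒳.p.IsHomLift m.left (G.map m ≫ (exists_app hH β T).exists.choose) :=
          @IsHomLift.comp_lift_id_right _ _ _ _ 𝒳.p _ _ _ _ _ m.left (G.map m) (lift_map G m) _ hT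
        haveI : 𝒳.p.IsHomLift m.left ((exists_app hH β S).exists.choose ≫ H.map m) := by
          simpa using @IsHomLift.comp _ _ _ _ 𝒳.p _ _ _ _ _ _ (𝟙 S.left) m.left _ (H.map m) hS
            (lift_map H m)
        apply IsStronglyCartesian.ext 𝒳.p T.hom (H.map (toId T)) m.left
        rw [Category.assoc, hT', ← Category.assoc, ← G.toFunctor.map_comp, Category.assoc,
          ← H.toFunctor.map_comp]
        erw [comp_toId]
        exact hS'.symm }
  isHomLift' := fun T => (exists_app hH β T).exists.choose_spec.1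

lemma natTransOfId_app_id :
    (natTransOfId hH β).toNatTrans.app (Over.mk (𝟙 U)) = β := by
  have h := (exists_app hH β (Over.mk (𝟙 U))).exists.choose_spec.2
  have e : toId (Over.mk (𝟙 U)) = 𝟙 _ := Over.OverMorphism.ext rfl
  have h2 : G.map (toId (Over.mk (𝟙 U))) = 𝟙 _ := (congrArg G.map e).trans (G.toFunctor.map_id _)
  have h3 : H.map (toId (Over.mk (𝟙 U))) = 𝟙 _ := (congrArg H.map e).trans (H.toFunctor.map_id _)
  exact (Category.comp_id _).symm.trans ((congrArg (_ ≫ ·) h3.symm).trans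
    (h.trans ((congrArg (· ≫ β) h2).trans (Category.id_comp _))))

end

lemma natTrans_ext (hH : PreservesStronglyCartesian H) {α α' : G ⟶ H}
    (h : α.toNatTrans.app (Over.mk (𝟙 U)) = α'.toNatTrans.app (Over.mk (𝟙 U))) : α = α' := by
  refine BasedNatTrans.homCategory.ext α α' (NatTrans.ext (funext fun T => ?_))
  haveI : 𝒳.p.IsHomLift (𝟙 U) (α.toNatTrans.app (Over.mk (𝟙 U))) :=
    BasedNatTrans.isHomLift α rfl
  refine (exists_app hH (α.toNatTrans.app (Over.mk (𝟙 U))) T).unique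
    ⟨BasedNatTrans.isHomLift α rfl, (α.toNatTrans.naturality (toId T)).symm⟩
    ⟨BasedNatTrans.isHomLift α' rfl, ?_⟩
  rw [h]
  exact (α'.toNatTrans.naturality (toId T)).symm

lemma evalAtId_map_bijective (hH : PreservesStronglyCartesian H) :
    Function.Bijective ((evalAtId 𝒳 U).map : (G ⟶ H) → _) := by
  refine ⟨fun α α' h => natTrans_ext hH (congrArg Subtype.val h), fun β => ?_⟩
  let b : G.obj (Over.mk (𝟙 U)) ⟶ H.obj (Over.mk (𝟙 U)) := β.1
  haveI hb : 𝒳.p.IsHomLift (𝟙 U) b := β.2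
  exact ⟨natTransOfId hH b, Subtype.ext (natTransOfId_app_id hH b)⟩

section

variable [𝒳.p.IsFibered] (x : 𝒳.p.Fiber U)

/-- The transition map between the chosen pullbacks. -/
noncomputable def pbMap {A B : C} {a : A ⟶ U} {b : B ⟶ U} (g : A ⟶ B) (w : g ≫ b = a) :
    IsPreFibered.pullbackObj x.2 a ⟶ IsPreFibered.pullbackObj x.2 b :=
  IsStronglyCartesian.map 𝒳.p b (IsPreFibered.pullbackMap x.2 b) w.symm
    (IsPreFibered.pullbackMap x.2 a)

lemma pbMap_lift {A B : C} {a : A ⟶ U} {b : B ⟶ U} (g : A ⟶ B) (w : g ≫ b = a) :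
    𝒳.p.IsHomLift g (pbMap x g w) :=
  IsStronglyCartesian.map_isHomLift 𝒳.p b (IsPreFibered.pullbackMap x.2 b) w.symm _

lemma pbMap_fac {A B : C} {a : A ⟶ U} {b : B ⟶ U} (g : A ⟶ B) (w : g ≫ b = a) :
    pbMap x g w ≫ IsPreFibered.pullbackMap x.2 b = IsPreFibered.pullbackMap x.2 a :=
  IsStronglyCartesian.fac 𝒳.p b (IsPreFibered.pullbackMap x.2 b) w.symm _

lemma pbMap_id {A : C} (a : A ⟶ U) (w : 𝟙 A ≫ a = a) : pbMap x (𝟙 A) w = 𝟙 _ := by
  haveI : 𝒳.p.IsHomLift (𝟙 A) (𝟙 (IsPreFibered.pullbackObj x.2 a)) :=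
    IsHomLift.id (IsPreFibered.pullbackObj_proj _ _)
  haveI := pbMap_lift x (𝟙 A) w
  apply IsStronglyCartesian.ext 𝒳.p a (IsPreFibered.pullbackMap x.2 a) (𝟙 A)
  rw [pbMap_fac, Category.id_comp]

lemma pbMap_comp {A B D : C} {a : A ⟶ U} {b : B ⟶ U} {d : D ⟶ U} (g : A ⟶ B) (h : B ⟶ D)
    (w : g ≫ b = a) (w' : h ≫ d = b) (w'' : (g ≫ h) ≫ d = a) :
    pbMap x (g ≫ h) w'' = pbMap x g w ≫ pbMap x h w' := by
  haveI := pbMap_lift x g w
  haveI := pbMap_lift x h w'
  haveI := pbMap_lift x (g ≫ h) w''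
  apply IsStronglyCartesian.ext 𝒳.p d (IsPreFibered.pullbackMap x.2 d) (g ≫ h)
  rw [pbMap_fac, Category.assoc, pbMap_fac, pbMap_fac]

/-- The functor of pullbacks of an object over `U`. -/
noncomputable def ofPoint : overCat U ⥤ᵇ 𝒳 where
  toFunctor :=
    { obj := fun T => IsPreFibered.pullbackObj x.2 T.hom
      map := fun {S T} m => pbMap x m.left (Over.w m)
      map_id := fun T => pbMap_id x T.hom (Category.id_comp _)
      map_comp := fun {R S T} m m' => pbMap_comp x m.left m'.left (Over.w m) (Over.w m')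
        ((Category.assoc _ _ _).trans ((congrArg (m.left ≫ ·) (Over.w m')).trans (Over.w m))) }
  w := Functor.ext (fun T => IsPreFibered.pullbackObj_proj x.2 T.hom) (fun S T m => by
    haveI := pbMap_lift x m.left (Over.w m)
    exact IsHomLift.fac' 𝒳.p m.left (pbMap x m.left (Over.w m)))

lemma ofPoint_preserves : PreservesStronglyCartesian (ofPoint x) := by
  intro R S f a' b' φ' hφ
  suffices key : ∀ {a b : Over U} (φ : a ⟶ b),
      𝒳.p.IsStronglyCartesian φ.left ((ofPoint x).map φ) by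
    subst_hom_lift (overCat U).p f φ'
    exact key φ'
  intro a b φ
  haveI := pbMap_lift x φ.left (Over.w φ)
  haveI : 𝒳.p.IsStronglyCartesian (φ.left ≫ b.hom)
      (pbMap x φ.left (Over.w φ) ≫ IsPreFibered.pullbackMap x.2 b.hom) := by
    rw [pbMap_fac, Over.w φ]; infer_instance
  haveI : 𝒳.p.IsStronglyCartesian b.hom (IsPreFibered.pullbackMap x.2 b.hom) := inferInstance
  have h := IsStronglyCartesian.of_comp (f := φ.left) (g := b.hom) (φ := pbMap x φ.left (Over.w φ))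
    (ψ := IsPreFibered.pullbackMap x.2 b.hom) 𝒳.p
  exact h

lemma nonempty_evalAtId_ofPoint_iso : Nonempty ((evalAtId 𝒳 U).obj (ofPoint x) ≅ x) := by
  haveI : IsIso (IsPreFibered.pullbackMap x.2 (𝟙 U)) :=
    IsStronglyCartesian.isIso_of_base_isIso 𝒳.p (𝟙 U) _
  let e : ((evalAtId 𝒳 U).obj (ofPoint x)).1 ≅ x.1 :=
    @asIso _ _ _ _ (IsPreFibered.pullbackMap x.2 (𝟙 U)) this
  exact ⟨fiberIso 𝒳.p e
    (inferInstanceAs (𝒳.p.IsHomLift (𝟙 U) (IsPreFibered.pullbackMap x.2 (𝟙 U))))⟩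

end

lemma evalAtId_restrict_isEquivalence [𝒳.p.IsFibered] :
    ((ObjectProperty.ι (PreservesStronglyCartesian (𝒳 := overCat U) (𝒴 := 𝒳))) ⋙
      evalAtId 𝒳 U).IsEquivalence where
  faithful := ⟨fun {G H α α'} h => ObjectProperty.hom_ext _ ((evalAtId_map_bijective H.2).1 h)⟩
  full := ⟨fun {G H} β => by
    obtain ⟨α, hα⟩ := (evalAtId_map_bijective (G := G.1) H.2).2 β
    exact ⟨ObjectProperty.homMk α, hα⟩⟩
  essSurj := ⟨fun x => ⟨⟨ofPoint x, ofPoint_preserves x⟩, nonempty_evalAtId_ofPoint_iso x⟩⟩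

lemma evalAtId_isEquivalence [IsFibGrpd 𝒳.p] : (evalAtId 𝒳 U).IsEquivalence where
  faithful := ⟨fun {G H α α'} h =>
    (evalAtId_map_bijective (preservesStronglyCartesian_of_isFibGrpd H)).1 h⟩
  full := ⟨fun {G H} β =>
    (evalAtId_map_bijective (preservesStronglyCartesian_of_isFibGrpd H)).2 β⟩
  essSurj := ⟨fun x => ⟨ofPoint x, nonempty_evalAtId_ofPoint_iso x⟩⟩

/-- Functors out of a slice into a category fibred in groupoids are determined by their value at
the identity. -/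
lemma nonempty_iso_of_vert [IsFibGrpd 𝒳.p] (G H : overCat U ⥤ᵇ 𝒳)
    (e : G.obj (Over.mk (𝟙 U)) ≅ H.obj (Over.mk (𝟙 U))) (he : 𝒳.p.IsHomLift (𝟙 U) e.hom) :
    Nonempty (G ≅ H) := by
  haveI := evalAtId_isEquivalence (𝒳 := 𝒳) (U := U)
  exact ⟨(evalAtId 𝒳 U).preimageIso
    (fiberIso 𝒳.p (a := (evalAtId 𝒳 U).obj G) (b := (evalAtId 𝒳 U).obj H) e he)⟩

/-- `Over.map f` as a functor over the base. -/
abbrev overMap {A B : C} (f : A ⟶ B) : overCat A ⥤ᵇ overCat B :=
  ⟨Over.map f, Over.mapForget_eq f⟩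

/-- Every functor over `C` between slices is isomorphic to some `Over.map f`. -/
lemma exists_iso_overMap {A B : C} (G : overCat A ⥤ᵇ overCat B) :
    ∃ f : A ⟶ B, Nonempty (G ≅ overMap f) := by
  have h : (G.obj (Over.mk (𝟙 A))).left = A := G.w_obj _
  let f : A ⟶ B := eqToHom h.symm ≫ (G.obj (Over.mk (𝟙 A))).hom
  let e : G.obj (Over.mk (𝟙 A)) ≅ (overMap f).obj (Over.mk (𝟙 A)) :=
    Over.isoMk (eqToIso h) (by
      change eqToHom h ≫ 𝟙 A ≫ f = _
      simp [f])
  refine ⟨f, nonempty_iso_of_vert G (overMap f) e ?_⟩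
  exact IsHomLift.of_fac _ _ e.hom h rfl (by
    change 𝟙 A = eqToHom h.symm ≫ eqToHom h ≫ eqToHom rfl
    simp)

end FibLib
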