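import Mathlib.CategoryTheory.FiberedCategory.Fibered
import Mathlib.CategoryTheory.Groupoid
import Groth.Prelude.Def_FibCat2
import Groth.Prelude.Def_W4stkcategoriessitesFib

/-!
# Categories fibred in groupoids, equivalences over the base, fibrewise criteria
-/

universe v₄ u₄ v₃ u₃ v₂ u₂ v u

set_option linter.style.haveILetI false

open CategoryTheory FibCat
open CategoryTheory.Functor (Fiber IsPreFibered IsFibered IsStronglyCartesian IsCartesian)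

namespace FibLib

section Plain

variable {C : Type u} [Category.{v} C] {X : Type u₂} [Category.{v₂} X] (p : X ⥤ C)

lemma isStronglyCartesian_map_iff {R S : C} (f : R ⟶ S) {a b : X} (φ : a ⟶ b) [p.IsHomLift f φ] :
    p.IsStronglyCartesian (p.map φ) φ ↔ p.IsStronglyCartesian f φ := by
  subst_hom_lift p f φ
  exact Iff.rfl

lemma isStronglyCartesian_map {R S : C} (f : R ⟶ S) {a b : X} (φ : a ⟶ b)
    [p.IsStronglyCartesian f φ] : p.IsStronglyCartesian (p.map φ) φ :=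
  (isStronglyCartesian_map_iff p f φ).mpr inferInstance

lemma isCartesian_map_iff {R S : C} (f : R ⟶ S) {a b : X} (φ : a ⟶ b) [p.IsHomLift f φ] :
    p.IsCartesian (p.map φ) φ ↔ p.IsCartesian f φ := by
  subst_hom_lift p f φ
  exact Iff.rfl

lemma isHomLift_congr {R S : C} {f g : R ⟶ S} (h : f = g) {a b : X} (φ : a ⟶ b)
    [p.IsHomLift f φ] : p.IsHomLift g φ := h ▸ ‹_›

/-- A lift with prescribed domain equation. -/
lemma exists_stronglyCartesian [p.IsFibered] {R S : C} {a : X} (ha : p.obj a = S) (f : R ⟶ S) :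
    ∃ (b : X) (φ : b ⟶ a), p.IsStronglyCartesian f φ :=
  ⟨IsPreFibered.pullbackObj ha f, IsPreFibered.pullbackMap ha f, inferInstance⟩

instance isStronglyCartesian_of_isFibGrpd [IsFibGrpd p] {R S : C} (f : R ⟶ S) {a b : X}
    (φ : a ⟶ b) [p.IsHomLift f φ] : p.IsStronglyCartesian f φ :=
  (isStronglyCartesian_map_iff p f φ).mp (IsFibGrpd.isStronglyCartesian φ)

lemma exists_lift [IsFibGrpd p] {R S : C} {a : X} (ha : p.obj a = S) (f : R ⟶ S) :
    ∃ (b : X) (φ : b ⟶ a), p.IsHomLift f φ := by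
  subst ha
  exact IsFibGrpd.exists_lift f

instance (priority := 100) isFibered_of_isFibGrpd [IsFibGrpd p] : p.IsFibered :=
  IsFibered.of_exists_isStronglyCartesian fun a R f => by
    obtain ⟨b, φ, hφ⟩ := exists_lift p (a := a) rfl f
    exact ⟨b, φ, inferInstance⟩

lemma isIso_of_isHomLift [IsFibGrpd p] {R S : C} (f : R ⟶ S) [IsIso f] {a b : X} (φ : a ⟶ b)
    [p.IsHomLift f φ] : IsIso φ :=
  IsStronglyCartesian.isIso_of_base_isIso p f φ

/-- A fibre morphism is invertible as soon as the underlying morphism is. -/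
lemma fiber_isIso_iff {U : C} {a b : p.Fiber U} (φ : a ⟶ b) :
    IsIso φ ↔ IsIso φ.1 := by
  constructor
  · intro _
    exact inferInstanceAs (IsIso (Fiber.fiberInclusion.map φ))
  · intro h
    haveI := φ.2
    refine ⟨⟨inv φ.1, inferInstance⟩, ?_, ?_⟩
    · exact Fiber.hom_ext (IsIso.hom_inv_id φ.1)
    · exact Fiber.hom_ext (IsIso.inv_hom_id φ.1)

/-- The isomorphism of a fibre category given by a vertical isomorphism. -/
def fiberIso {U : C} {a b : p.Fiber U} (e : a.1 ≅ b.1) (h : p.IsHomLift (𝟙 U) e.hom) : a ≅ b where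
  hom := ⟨e.hom, h⟩
  inv := ⟨e.inv, inferInstance⟩
  hom_inv_id := Fiber.hom_ext e.hom_inv_id
  inv_hom_id := Fiber.hom_ext e.inv_hom_id

lemma isGroupoid_fiber [IsFibGrpd p] (U : C) : IsGroupoid (p.Fiber U) :=
  ⟨fun φ => (fiber_isIso_iff p φ).mpr (by haveI := φ.2; exact isIso_of_isHomLift p (𝟙 U) φ.1)⟩

lemma isFibGrpd_of_isFibered [p.IsFibered] (h : ∀ U : C, IsGroupoid (p.Fiber U)) :
    IsFibGrpd p where
  exists_lift {x V} f := by
    obtain ⟨b, φ, hφ⟩ := exists_stronglyCartesian p (a := x) rfl f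
    exact ⟨b, φ, inferInstance⟩
  isStronglyCartesian {y x} φ := by
    obtain ⟨y', ψ, hψ⟩ := exists_stronglyCartesian p (a := x) rfl (p.map φ)
    let χ := IsStronglyCartesian.map p (p.map φ) ψ (g := 𝟙 _) (Category.id_comp _).symm φ
    have hy' : p.obj y' = p.obj y := IsHomLift.domain_eq p (p.map φ) ψ
    let χ' : (Fiber.mk (p := p) (a := y) rfl) ⟶ (Fiber.mk (p := p) hy') :=
      ⟨χ, IsStronglyCartesian.map_isHomLift p (p.map φ) ψ _ φ⟩
    haveI := h (p.obj y)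
    haveI : IsIso χ := (fiber_isIso_iff p χ').mp inferInstance
    have e : χ ≫ ψ = φ := IsStronglyCartesian.fac p (p.map φ) ψ _ φ
    have : p.IsStronglyCartesian (𝟙 (p.obj y) ≫ p.map φ) (χ ≫ ψ) := inferInstance
    simpa [e] using this

lemma isFibGrpd_iff : IsFibGrpd p ↔ (p.IsFibered ∧ ∀ U : C, IsGroupoid (p.Fiber U)) :=
  ⟨fun _ => ⟨inferInstance, fun U => isGroupoid_fiber p U⟩,
    fun h => by haveI := h.1; exact isFibGrpd_of_isFibered p h.2⟩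

/-- Isomorphisms of the base lift with prescribed source. -/
lemma exists_iso_lift [p.IsFibered] {T S : C} (α : T ≅ S) (ξ : X) (hξ : p.obj ξ = T) :
    ∃ (ξ' : X) (e : ξ ≅ ξ'), p.IsHomLift α.hom e.hom := by
  obtain ⟨b, φ, hφ⟩ := exists_stronglyCartesian p hξ α.inv
  haveI := IsStronglyCartesian.isIso_of_base_isIso p α.inv φ
  haveI : p.IsHomLift α.symm.hom (asIso φ).hom := inferInstanceAs (p.IsHomLift α.inv φ)
  exact ⟨b, (asIso φ).symm, IsHomLift.inv_lift_inv p α.symm (asIso φ)⟩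

instance (priority := 100) isFibGrpd_id : IsFibGrpd (𝟭 C) where
  exists_lift {x V} f := ⟨V, f, IsHomLift.map (p := 𝟭 C) f⟩
  isStronglyCartesian {y x} φ :=
    { universal_property' := fun {z} g ψ hψ => by
        haveI : (𝟭 C).IsHomLift (g ≫ φ) ψ := hψ
        have hg : g ≫ φ = ψ := IsHomLift.eq_of_isHomLift (𝟭 C) (g ≫ φ) ψ
        exact ⟨g, ⟨IsHomLift.map (p := 𝟭 C) g, hg⟩,
          fun χ ⟨hχ, _⟩ => (IsHomLift.eq_of_isHomLift (𝟭 C) g χ).symm⟩ }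

instance isFibGrpd_overForget (U : C) : IsFibGrpd (Over.forget U) where
  exists_lift {x V} f :=
    ⟨Over.mk (f ≫ x.hom), Over.homMk f rfl,
      IsHomLift.map (p := Over.forget U) (Over.homMk (U := Over.mk (f ≫ x.hom)) f rfl)⟩
  isStronglyCartesian {y x} φ :=
    { universal_property' := fun {z} g ψ hψ => by
        have hg : g ≫ φ.left = ψ.left :=
          @IsHomLift.eq_of_isHomLift _ _ _ _ (Over.forget U) _ _ _ ψ hψ
        refine ⟨Over.homMk (g : z.left ⟶ y.left) (by rw [← Over.w φ, ← Category.assoc]; exact (congrArg (· ≫ x.hom) hg).trans (Over.w ψ)),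
          ⟨IsHomLift.map (p := Over.forget U) (Over.homMk g _), Over.OverMorphism.ext hg⟩, ?_⟩
        rintro χ ⟨hχ, -⟩
        exact Over.OverMorphism.ext (IsHomLift.eq_of_isHomLift (Over.forget U) g χ).symm }

end Plain

section Based

variable {C : Type u} [Category.{v} C]
variable {𝒳 : BasedCategory.{v₂, u₂} C} {𝒴 : BasedCategory.{v₃, u₃} C}

instance isFibGrpd_selfOver : IsFibGrpd (selfOver C).p := inferInstanceAs (IsFibGrpd (𝟭 C))

instance isFibGrpd_overCat (U : C) : IsFibGrpd (overCat U).p :=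
  inferInstanceAs (IsFibGrpd (Over.forget U))

/-- Essential surjectivity by vertical isomorphisms. -/
def VertEssSurj (F : 𝒳 ⥤ᵇ 𝒴) : Prop :=
  ∀ η : 𝒴.obj, ∃ (ξ : 𝒳.obj) (e : F.toFunctor.obj ξ ≅ η),
    𝒴.p.IsHomLift (𝟙 (𝒴.p.obj η)) e.hom

lemma isEquivOver_of_vertEssSurj (F : 𝒳 ⥤ᵇ 𝒴) [F.toFunctor.Full] [F.toFunctor.Faithful]
    (h : VertEssSurj F) : IsEquivOver F := by
  choose g e he using h
  have hobj : ∀ η, 𝒳.p.obj (g η) = 𝒴.p.obj η := fun η => by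
    have := IsHomLift.domain_eq 𝒴.p (𝟙 (𝒴.p.obj η)) (e η).hom
    exact (F.w_obj (g η)).symm.trans this
  let G₀ : 𝒴.obj ⥤ 𝒳.obj :=
    { obj := g
      map := fun {a b} f => F.toFunctor.preimage ((e a).hom ≫ f ≫ (e b).inv)
      map_id := fun a => F.toFunctor.map_injective (by simp)
      map_comp := fun f f' => F.toFunctor.map_injective (by simp) }
  have hlift : ∀ {a b : 𝒴.obj} (f : a ⟶ b), 𝒳.p.IsHomLift (𝒴.p.map f) (G₀.map f) := by
    intro a b f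
    have : 𝒴.p.IsHomLift (𝒴.p.map f) (F.map (G₀.map f)) := by
      haveI := he a
      haveI := he b
      simp only [G₀, Functor.map_preimage]
      infer_instance
    exact F.isHomLift_map (𝒴.p.map f) _
  let G : 𝒴 ⥤ᵇ 𝒳 :=
    { toFunctor := G₀
      w := Functor.ext hobj (fun a b f => by
        haveI := hlift f
        exact IsHomLift.fac' 𝒳.p (𝒴.p.map f) (G₀.map f)) }
  refine ⟨G, ⟨BasedNatIso.mkNatIso (NatIso.ofComponents
      (fun a => F.toFunctor.preimageIso (e (F.obj a)))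
      (fun {a b} f => F.toFunctor.map_injective (by
        simp only [BasedFunctor.comp, BasedFunctor.id, Functor.comp_map, Functor.id_map,
          Functor.map_comp, Functor.preimageIso_hom, Functor.map_preimage, G, G₀]
        simp))) ?_⟩,
    ⟨BasedNatIso.mkNatIso (NatIso.ofComponents e
      (fun {a b} f => by
        simp only [BasedFunctor.comp, BasedFunctor.id, Functor.comp_map, Functor.id_map,
          Functor.map_preimage, G, G₀]
        simp)) ?_⟩⟩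
  · intro a
    change 𝒳.p.IsHomLift (𝟙 (𝒳.p.obj a)) (F.toFunctor.preimage (e (F.obj a)).hom)
    have h' := he (F.obj a)
    rw [F.w_obj] at h'
    have : 𝒴.p.IsHomLift (𝟙 (𝒳.p.obj a)) (F.map (F.toFunctor.preimage (e (F.obj a)).hom)) := by
      rw [Functor.map_preimage]; exact h'
    exact F.isHomLift_map (𝟙 (𝒳.p.obj a)) _
  · intro η
    exact he η

lemma isEquivalence_of_isEquivOver {F : 𝒳 ⥤ᵇ 𝒴} (h : IsEquivOver F) :
    F.toFunctor.IsEquivalence := by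
  obtain ⟨G, ⟨u⟩, ⟨c⟩⟩ := h
  exact (CategoryTheory.Equivalence.mk F.toFunctor G.toFunctor ((BasedNatTrans.forgetful _ _).mapIso u).symm
    ((BasedNatTrans.forgetful _ _).mapIso c)).isEquivalence_functor

lemma vertEssSurj_of_isEquivOver {F : 𝒳 ⥤ᵇ 𝒴} (h : IsEquivOver F) : VertEssSurj F := by
  obtain ⟨G, -, ⟨c⟩⟩ := h
  intro η
  exact ⟨G.obj η, ((BasedNatTrans.forgetful _ _).mapIso c).app η, c.hom.isHomLift rfl⟩

lemma isEquivOver_iff (F : 𝒳 ⥤ᵇ 𝒴) :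
    IsEquivOver F ↔ (F.toFunctor.Full ∧ F.toFunctor.Faithful) ∧ VertEssSurj F := by
  refine ⟨fun h => ?_, fun ⟨⟨_, _⟩, h⟩ => isEquivOver_of_vertEssSurj F h⟩
  haveI := isEquivalence_of_isEquivOver h
  exact ⟨⟨inferInstance, inferInstance⟩, vertEssSurj_of_isEquivOver h⟩

lemma isEquivOver_of_isEquivalence (F : 𝒳 ⥤ᵇ 𝒴) [F.toFunctor.IsEquivalence]
    (h : ∀ ⦃T S : C⦄ (α : T ≅ S) (ξ : 𝒳.obj), 𝒳.p.obj ξ = T →
      ∃ (ξ' : 𝒳.obj) (e : ξ ≅ ξ'), 𝒳.p.IsHomLift α.hom e.hom) : IsEquivOver F := by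
  refine isEquivOver_of_vertEssSurj F (fun η => ?_)
  let ξ := F.toFunctor.objPreimage η
  let e : F.obj ξ ≅ η := F.toFunctor.objObjPreimageIso η
  let α : 𝒳.p.obj ξ ≅ 𝒴.p.obj η := eqToIso (F.w_obj ξ).symm ≪≫ 𝒴.p.mapIso e
  obtain ⟨ξ', e', he'⟩ := h α ξ rfl
  refine ⟨ξ', (F.toFunctor.mapIso e').symm ≪≫ e, ?_⟩
  haveI h₂ : 𝒴.p.IsHomLift α.hom e.hom := by
    refine IsHomLift.of_fac 𝒴.p _ _ (F.w_obj ξ) rfl ?_
    simp [α]
  haveI : 𝒴.p.IsHomLift α.hom (F.toFunctor.mapIso e').hom :=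
    inferInstanceAs (𝒴.p.IsHomLift α.hom (F.map e'.hom))
  have := IsHomLift.comp 𝒴.p α.inv α.hom (F.toFunctor.mapIso e').inv e.hom
  simpa using this

lemma isEquivOver_of_isEquivalence_of_isFibered (F : 𝒳 ⥤ᵇ 𝒴) [F.toFunctor.IsEquivalence]
    [𝒳.p.IsFibered] : IsEquivOver F :=
  isEquivOver_of_isEquivalence F fun _ _ α ξ hξ => exists_iso_lift 𝒳.p α ξ hξ

section FullyFaithful

variable (F : 𝒳 ⥤ᵇ 𝒴) [F.toFunctor.Full] [F.toFunctor.Faithful]

lemma isStronglyCartesian_of_map {R S : C} (f : R ⟶ S) {a b : 𝒳.obj} (φ : a ⟶ b)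
    [𝒴.p.IsStronglyCartesian f (F.map φ)] : 𝒳.p.IsStronglyCartesian f φ := by
  haveI : 𝒳.p.IsHomLift f φ := F.isHomLift_map f φ
  constructor
  intro c g ψ hψ
  let k : F.obj c ⟶ F.obj a :=
    IsStronglyCartesian.map 𝒴.p f (F.map φ) (f' := g ≫ f) (g := g) rfl (F.map ψ)
  have hk : 𝒳.p.IsHomLift g (F.toFunctor.preimage k) := by
    have : 𝒴.p.IsHomLift g (F.map (F.toFunctor.preimage k)) := by
      rw [Functor.map_preimage]; infer_instance
    exact F.isHomLift_map g _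
  refine ⟨F.toFunctor.preimage k, ⟨hk, F.toFunctor.map_injective (by simp [k])⟩, ?_⟩
  rintro χ ⟨hχ, hχ'⟩
  refine F.toFunctor.map_injective ?_
  rw [Functor.map_preimage]
  exact IsStronglyCartesian.map_uniq 𝒴.p f (F.map φ) (g := g) rfl (F.map ψ) (F.map χ)
    (by rw [← F.toFunctor.map_comp, hχ'])

lemma isCartesian_of_map {R S : C} (f : R ⟶ S) {a b : 𝒳.obj} (φ : a ⟶ b)
    [𝒴.p.IsCartesian f (F.map φ)] : 𝒳.p.IsCartesian f φ := by
  haveI : 𝒳.p.IsHomLift f φ := F.isHomLift_map f φ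
  constructor
  intro c ψ hψ
  let k : F.obj c ⟶ F.obj a := IsCartesian.map 𝒴.p f (F.map φ) (F.map ψ)
  have hk : 𝒳.p.IsHomLift (𝟙 R) (F.toFunctor.preimage k) := by
    have : 𝒴.p.IsHomLift (𝟙 R) (F.map (F.toFunctor.preimage k)) := by
      rw [Functor.map_preimage]; infer_instance
    exact F.isHomLift_map _ _
  refine ⟨F.toFunctor.preimage k, ⟨hk, F.toFunctor.map_injective (by simp [k])⟩, ?_⟩
  rintro χ ⟨hχ, hχ'⟩
  refine F.toFunctor.map_injective ?_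
  rw [Functor.map_preimage]
  exact IsCartesian.map_uniq 𝒴.p f (F.map φ) (F.map ψ) (F.map χ)
    (by rw [← F.toFunctor.map_comp, hχ'])

end FullyFaithful

lemma isStronglyCartesian_map_of_isEquivOver {F : 𝒳 ⥤ᵇ 𝒴} (hF : IsEquivOver F) {R S : C}
    (f : R ⟶ S) {a b : 𝒳.obj} (φ : a ⟶ b) [𝒳.p.IsStronglyCartesian f φ] :
    𝒴.p.IsStronglyCartesian f (F.map φ) := by
  obtain ⟨⟨_, _⟩, hE⟩ := (isEquivOver_iff F).mp hF
  constructor
  intro η g ψ hψ
  obtain ⟨ξ, e, he⟩ := hE η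
  haveI : 𝒴.p.IsHomLift (g ≫ f) (e.hom ≫ ψ) := inferInstance
  haveI : 𝒳.p.IsHomLift (g ≫ f) (F.toFunctor.preimage (e.hom ≫ ψ)) := by
    have : 𝒴.p.IsHomLift (g ≫ f) (F.map (F.toFunctor.preimage (e.hom ≫ ψ))) := by
      rw [Functor.map_preimage]; infer_instance
    exact F.isHomLift_map _ _
  let χ := IsStronglyCartesian.map 𝒳.p f φ (f' := g ≫ f) (g := g) rfl
    (F.toFunctor.preimage (e.hom ≫ ψ))
  have hχ : χ ≫ φ = F.toFunctor.preimage (e.hom ≫ ψ) := IsStronglyCartesian.fac _ _ _ _ _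
  refine ⟨e.inv ≫ F.map χ, ⟨inferInstance, ?_⟩, ?_⟩
  · rw [Category.assoc, ← F.toFunctor.map_comp, hχ, Functor.map_preimage, e.inv_hom_id_assoc]
  rintro κ ⟨hκ, hκ'⟩
  haveI : 𝒳.p.IsHomLift g (F.toFunctor.preimage (e.hom ≫ κ)) := by
    have : 𝒴.p.IsHomLift g (F.map (F.toFunctor.preimage (e.hom ≫ κ))) := by
      rw [Functor.map_preimage]; infer_instance
    exact F.isHomLift_map _ _
  rw [Iso.eq_inv_comp]
  have h2 : F.toFunctor.preimage (e.hom ≫ κ) = χ :=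
    IsStronglyCartesian.map_uniq 𝒳.p f φ (g := g) rfl _ _
      (F.toFunctor.map_injective (by simp [hκ']))
  rw [← h2, Functor.map_preimage]

lemma isCartesian_map_of_isEquivOver {F : 𝒳 ⥤ᵇ 𝒴} (hF : IsEquivOver F) {R S : C}
    (f : R ⟶ S) {a b : 𝒳.obj} (φ : a ⟶ b) [𝒳.p.IsCartesian f φ] :
    𝒴.p.IsCartesian f (F.map φ) := by
  obtain ⟨⟨_, _⟩, hE⟩ := (isEquivOver_iff F).mp hF
  constructor
  intro η ψ hψ
  obtain ⟨ξ, e, he⟩ := hE η
  haveI : 𝒴.p.IsHomLift (𝟙 R) e.hom := IsHomLift.domain_eq 𝒴.p f ψ ▸ he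
  haveI : 𝒳.p.IsHomLift f (F.toFunctor.preimage (e.hom ≫ ψ)) := by
    have : 𝒴.p.IsHomLift f (F.map (F.toFunctor.preimage (e.hom ≫ ψ))) := by
      rw [Functor.map_preimage]; infer_instance
    exact F.isHomLift_map _ _
  let χ := IsCartesian.map 𝒳.p f φ (F.toFunctor.preimage (e.hom ≫ ψ))
  have hχ : χ ≫ φ = F.toFunctor.preimage (e.hom ≫ ψ) := IsCartesian.fac _ _ _ _
  refine ⟨e.inv ≫ F.map χ, ⟨inferInstance, ?_⟩, ?_⟩
  · rw [Category.assoc, ← F.toFunctor.map_comp, hχ, Functor.map_preimage, e.inv_hom_id_assoc]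
  rintro κ ⟨hκ, hκ'⟩
  haveI : 𝒳.p.IsHomLift (𝟙 R) (F.toFunctor.preimage (e.hom ≫ κ)) := by
    have : 𝒴.p.IsHomLift (𝟙 R) (F.map (F.toFunctor.preimage (e.hom ≫ κ))) := by
      rw [Functor.map_preimage]; infer_instance
    exact F.isHomLift_map _ _
  rw [Iso.eq_inv_comp]
  have h2 : F.toFunctor.preimage (e.hom ≫ κ) = χ :=
    IsCartesian.map_uniq 𝒳.p f φ _ _ (F.toFunctor.map_injective (by simp [hκ']))
  rw [← h2, Functor.map_preimage]

section Fibrewise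

variable (G : 𝒳 ⥤ᵇ 𝒴)

lemma preservesStronglyCartesian_of_isFibGrpd [IsFibGrpd 𝒴.p] : PreservesStronglyCartesian G :=
  fun _ _ _ _ _ _ _ => inferInstance

lemma fiberFunctor_faithful [G.toFunctor.Faithful] (U : C) : (fiberFunctor G U).Faithful :=
  ⟨fun {_ _ _ _} h => Fiber.hom_ext (G.toFunctor.map_injective (congrArg (·.1) h))⟩

lemma fiberFunctor_full [G.toFunctor.Full] (U : C) : (fiberFunctor G U).Full :=
  ⟨fun {a b} h => by
    haveI : 𝒴.p.IsHomLift (𝟙 U) (G.map (G.toFunctor.preimage h.1)) := by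
      rw [Functor.map_preimage]; exact h.2
    exact ⟨⟨G.toFunctor.preimage h.1, @BasedFunctor.isHomLift_map _ _ _ _ G _ _ a.1 b.1 (𝟙 U) _ ‹_›⟩,
      Fiber.hom_ext (G.toFunctor.map_preimage h.1)⟩⟩

lemma fiberFunctor_essSurj (h : VertEssSurj G) (U : C) : (fiberFunctor G U).EssSurj :=
  ⟨fun η => by
    obtain ⟨ξ, e, he⟩ := h η.1
    have he' : 𝒴.p.IsHomLift (𝟙 U) e.hom := by
      have h2 := he
      rw [η.2] at h2
      exact h2
    have hξ : 𝒳.p.obj ξ = U := (G.w_obj ξ).symm.trans (IsHomLift.domain_eq 𝒴.p (𝟙 U) e.hom)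
    exact ⟨⟨ξ, hξ⟩, ⟨fiberIso 𝒴.p (a := (fiberFunctor G U).obj ⟨ξ, hξ⟩) e he'⟩⟩⟩

lemma vertEssSurj_of_fiber (h : ∀ U : C, (fiberFunctor G U).EssSurj) : VertEssSurj G := by
  intro η
  haveI := h (𝒴.p.obj η)
  let η' : 𝒴.p.Fiber (𝒴.p.obj η) := ⟨η, rfl⟩
  exact ⟨((fiberFunctor G _).objPreimage η').1,
    Fiber.fiberInclusion.mapIso ((fiberFunctor G _).objObjPreimageIso η'),
    ((fiberFunctor G _).objObjPreimageIso η').hom.2⟩

variable [𝒳.p.IsFibered] (hG : PreservesStronglyCartesian G)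
include hG

lemma faithful_of_fiber (h : ∀ U : C, (fiberFunctor G U).Faithful) : G.toFunctor.Faithful := by
  constructor
  intro a b φ φ' hφ
  obtain ⟨c, ψ, hψ⟩ := exists_stronglyCartesian 𝒳.p (a := b) rfl (𝒳.p.map φ)
  haveI : 𝒳.p.IsHomLift (𝒳.p.map φ) φ' := by
    have : 𝒴.p.IsHomLift (𝒳.p.map φ) (G.map φ') := hφ ▸ inferInstance
    exact G.isHomLift_map _ _
  have key : ∀ (θ : a ⟶ b) [𝒳.p.IsHomLift (𝒳.p.map φ) θ],
      IsCartesian.map 𝒳.p (𝒳.p.map φ) ψ θ ≫ ψ = θ := fun θ _ => IsCartesian.fac _ _ _ _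
  haveI := hG _ ψ hψ
  have e : G.map (IsCartesian.map 𝒳.p (𝒳.p.map φ) ψ φ) =
      G.map (IsCartesian.map 𝒳.p (𝒳.p.map φ) ψ φ') := by
    apply IsCartesian.ext 𝒴.p (𝒳.p.map φ) (G.map ψ)
    rw [← G.toFunctor.map_comp, ← G.toFunctor.map_comp, key, key]
    exact hφ
  haveI := h (𝒳.p.obj a)
  have hc : 𝒳.p.obj c = 𝒳.p.obj a := IsHomLift.domain_eq 𝒳.p (𝒳.p.map φ) ψ
  rw [← key φ, ← key φ']
  refine congrArg (· ≫ ψ) ?_
  revert e
  have h₁ : 𝒳.p.IsHomLift (𝟙 (𝒳.p.obj a)) (IsCartesian.map 𝒳.p (𝒳.p.map φ) ψ φ) := inferInstance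
  have h₂ : 𝒳.p.IsHomLift (𝟙 (𝒳.p.obj a)) (IsCartesian.map 𝒳.p (𝒳.p.map φ) ψ φ') := inferInstance
  generalize IsCartesian.map 𝒳.p (𝒳.p.map φ) ψ φ = m at h₁ ⊢
  generalize IsCartesian.map 𝒳.p (𝒳.p.map φ) ψ φ' = m' at h₂ ⊢
  intro e
  let u : (Fiber.mk (p := 𝒳.p) (a := a) rfl) ⟶ (Fiber.mk (p := 𝒳.p) hc) := ⟨m, h₁⟩
  let u' : (Fiber.mk (p := 𝒳.p) (a := a) rfl) ⟶ (Fiber.mk (p := 𝒳.p) hc) := ⟨m', h₂⟩
  have e' : u = u' := (fiberFunctor G _).map_injective (Subtype.ext e)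
  exact congrArg Subtype.val e'

lemma full_of_fiber (h : ∀ U : C, (fiberFunctor G U).Full) : G.toFunctor.Full := by
  constructor
  intro a b k
  let f : 𝒳.p.obj a ⟶ 𝒳.p.obj b :=
    eqToHom (G.w_obj a).symm ≫ 𝒴.p.map k ≫ eqToHom (G.w_obj b)
  haveI : 𝒴.p.IsHomLift f k := IsHomLift.of_fac 𝒴.p _ _ (G.w_obj a) (G.w_obj b) rfl
  obtain ⟨c, ψ, hψ⟩ := exists_stronglyCartesian 𝒳.p (a := b) rfl f
  haveI := hG _ ψ hψ
  haveI := h (𝒳.p.obj a)
  have hc : 𝒳.p.obj c = 𝒳.p.obj a := IsHomLift.domain_eq 𝒳.p f ψ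
  let χ := IsCartesian.map 𝒴.p f (G.map ψ) k
  have hχ : χ ≫ G.map ψ = k := IsCartesian.fac 𝒴.p f (G.map ψ) k
  let t : (fiberFunctor G (𝒳.p.obj a)).obj ⟨a, rfl⟩ ⟶ (fiberFunctor G _).obj ⟨c, hc⟩ :=
    ⟨χ, IsCartesian.map_isHomLift 𝒴.p f (G.map ψ) k⟩
  refine ⟨((fiberFunctor G _).preimage t).1 ≫ ψ, ?_⟩
  rw [G.toFunctor.map_comp,
    show G.map ((fiberFunctor G _).preimage t).1 = t.1 from
      congrArg (·.1) ((fiberFunctor G _).map_preimage t)]
  exact hχ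

lemma isEquivOver_of_fiber (h : ∀ U : C, (fiberFunctor G U).IsEquivalence) : IsEquivOver G := by
  haveI := faithful_of_fiber G hG (fun U => (h U).faithful)
  haveI := full_of_fiber G hG (fun U => (h U).full)
  exact isEquivOver_of_vertEssSurj G (vertEssSurj_of_fiber G (fun U => (h U).essSurj))

end Fibrewise

lemma fiberFunctor_isEquivalence {G : 𝒳 ⥤ᵇ 𝒴} (h : IsEquivOver G) (U : C) :
    (fiberFunctor G U).IsEquivalence := by
  haveI := isEquivalence_of_isEquivOver h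
  haveI := fiberFunctor_faithful G U
  haveI := fiberFunctor_full G U
  haveI := fiberFunctor_essSurj G (vertEssSurj_of_isEquivOver h) U
  exact { }

lemma isEquivOver_id (𝒳 : BasedCategory.{v₂, u₂} C) : IsEquivOver (BasedFunctor.id 𝒳) :=
  ⟨BasedFunctor.id 𝒳, ⟨Iso.refl _⟩, ⟨Iso.refl _⟩⟩

lemma isEquivOver_comp {𝒵 : BasedCategory.{v₄, u₄} C} {F : 𝒳 ⥤ᵇ 𝒴} {G : 𝒴 ⥤ᵇ 𝒵}
    (hF : IsEquivOver F) (hG : IsEquivOver G) : IsEquivOver (BasedFunctor.comp F G) := by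
  obtain ⟨⟨_, _⟩, h₁⟩ := (isEquivOver_iff F).mp hF
  obtain ⟨⟨_, _⟩, h₂⟩ := (isEquivOver_iff G).mp hG
  haveI : (BasedFunctor.comp F G).toFunctor.Full :=
    inferInstanceAs (F.toFunctor ⋙ G.toFunctor).Full
  haveI : (BasedFunctor.comp F G).toFunctor.Faithful :=
    inferInstanceAs (F.toFunctor ⋙ G.toFunctor).Faithful
  refine isEquivOver_of_vertEssSurj _ (fun ζ => ?_)
  obtain ⟨η, e, he⟩ := h₂ ζ
  obtain ⟨ξ, e', he'⟩ := h₁ η
  have hη : 𝒴.p.obj η = 𝒵.p.obj ζ :=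
    (G.w_obj η).symm.trans (IsHomLift.domain_eq 𝒵.p (𝟙 (𝒵.p.obj ζ)) e.hom)
  haveI : 𝒴.p.IsHomLift (𝟙 (𝒵.p.obj ζ)) e'.hom := hη ▸ he'
  refine ⟨ξ, G.toFunctor.mapIso e' ≪≫ e, ?_⟩
  have h3 := IsHomLift.comp 𝒵.p (𝟙 (𝒵.p.obj ζ)) (𝟙 (𝒵.p.obj ζ)) (G.map e'.hom) e.hom
  rw [Category.comp_id] at h3
  exact h3

lemma isFibered_of_isEquivOver {F : 𝒳 ⥤ᵇ 𝒴} (hF : IsEquivOver F) [𝒳.p.IsFibered] :
    𝒴.p.IsFibered := by
  refine IsFibered.of_exists_isStronglyCartesian fun η R f => ?_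
  obtain ⟨ξ, e, he⟩ := vertEssSurj_of_isEquivOver hF η
  have hξ : 𝒳.p.obj ξ = 𝒴.p.obj η :=
    (F.w_obj ξ).symm.trans (IsHomLift.domain_eq 𝒴.p (𝟙 (𝒴.p.obj η)) e.hom)
  obtain ⟨b, φ, hφ⟩ := exists_stronglyCartesian 𝒳.p hξ f
  haveI := isStronglyCartesian_map_of_isEquivOver hF f φ
  refine ⟨F.obj b, F.map φ ≫ e.hom, ?_⟩
  simpa using (inferInstance : 𝒴.p.IsStronglyCartesian (f ≫ 𝟙 _) (F.map φ ≫ e.hom))

lemma isEquivOver_symm {F : 𝒳 ⥤ᵇ 𝒴} (hF : IsEquivOver F) :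
    ∃ G : 𝒴 ⥤ᵇ 𝒳, IsEquivOver G := by
  obtain ⟨G, u, c⟩ := hF
  exact ⟨G, F, c, u⟩

lemma isFibered_iff_of_isEquivOver {F : 𝒳 ⥤ᵇ 𝒴} (hF : IsEquivOver F) :
    𝒳.p.IsFibered ↔ 𝒴.p.IsFibered := by
  refine ⟨fun _ => isFibered_of_isEquivOver hF, fun _ => ?_⟩
  obtain ⟨G, hG⟩ := isEquivOver_symm hF
  exact isFibered_of_isEquivOver hG

end Based

end FibLib

namespace FibLib

section More

variable {C : Type u} [Category.{v} C]
variable {𝒳 : BasedCategory.{v₂, u₂} C} {𝒴 : BasedCategory.{v₃, u₃} C}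

lemma eq_fiberFunctor (G : 𝒳 ⥤ᵇ 𝒴) (U : C) (GU : 𝒳.p.Fiber U ⥤ 𝒴.p.Fiber U)
    (h : GU ⋙ Fiber.fiberInclusion = Fiber.fiberInclusion ⋙ G.toFunctor) :
    GU = fiberFunctor G U := by
  refine CategoryTheory.Functor.ext (fun x => Fiber.fiberInclusion_obj_inj (Functor.congr_obj h x))
    (fun x y f => ?_)
  apply Fiber.fiberInclusion.map_injective
  rw [Functor.map_comp, Functor.map_comp, eqToHom_map, eqToHom_map]
  exact Functor.congr_hom h f

lemma preservesStronglyCartesian_of_map (G : 𝒳 ⥤ᵇ 𝒴)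
    (hG : ∀ ⦃a b : 𝒳.obj⦄ (φ : a ⟶ b), 𝒳.p.IsStronglyCartesian (𝒳.p.map φ) φ →
      𝒴.p.IsStronglyCartesian (𝒳.p.map φ) (G.toFunctor.map φ)) :
    PreservesStronglyCartesian G := by
  intro R S f a b φ hφ
  subst_hom_lift 𝒳.p f φ
  exact hG φ hφ

end More

section Comp

variable {A : Type u₂} [Category.{v₂} A] {B : Type u₃} [Category.{v₃} B] {C : Type u₄}
  [Category.{v₄} C]

lemma isStronglyCartesian_comp (F : A ⥤ B) (G : B ⥤ C) {x y : A} (φ : x ⟶ y)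
    [F.IsStronglyCartesian (F.map φ) φ]
    [G.IsStronglyCartesian (G.map (F.map φ)) (F.map φ)] :
    (F ⋙ G).IsStronglyCartesian ((F ⋙ G).map φ) φ := by
  constructor
  intro z g ψ hψ
  haveI : G.IsHomLift (g ≫ G.map (F.map φ)) (F.map ψ) := by
    have h := @IsHomLift.eq_of_isHomLift _ _ _ _ (F ⋙ G) _ _ (g ≫ G.map (F.map φ)) ψ hψ
    rw [h]
    exact IsHomLift.map G (F.map ψ)
  let k : F.obj z ⟶ F.obj x :=
    IsStronglyCartesian.map G (G.map (F.map φ)) (F.map φ) (g := g) rfl (F.map ψ)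
  have hkg : g = G.map k := IsHomLift.eq_of_isHomLift G g k
  haveI : F.IsHomLift (k ≫ F.map φ) ψ := by
    have h : k ≫ F.map φ = F.map ψ := IsStronglyCartesian.fac G _ _ _ _
    rw [h]
    exact IsHomLift.map F ψ
  let χ : z ⟶ x := IsStronglyCartesian.map F (F.map φ) φ (g := k) rfl ψ
  have hχ : k = F.map χ := IsHomLift.eq_of_isHomLift F k χ
  refine ⟨χ, ⟨?_, IsStronglyCartesian.fac _ _ _ _ _⟩, ?_⟩
  · rw [hkg, hχ]
    exact IsHomLift.map (F ⋙ G) χ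
  rintro χ' ⟨hχ', hχ''⟩
  have hk' : F.map χ' = k := by
    haveI : G.IsHomLift g (F.map χ') := by
      rw [@IsHomLift.eq_of_isHomLift _ _ _ _ (F ⋙ G) _ _ g χ' hχ']
      exact IsHomLift.map G (F.map χ')
    exact IsStronglyCartesian.map_uniq G (G.map (F.map φ)) (F.map φ) (g := g) rfl (F.map ψ) _
      (by rw [← F.map_comp, hχ''])
  haveI : F.IsHomLift k χ' := by rw [← hk']; exact IsHomLift.map F χ'
  exact IsStronglyCartesian.map_uniq F (F.map φ) φ (g := k) rfl ψ χ' hχ''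

lemma exists_stronglyCartesian_comp (F : A ⥤ B) (G : B ⥤ C) [F.IsFibered] [G.IsFibered] (a : A)
    (R : C) (f : R ⟶ (F ⋙ G).obj a) :
    ∃ (b : A) (φ : b ⟶ a), (F ⋙ G).IsStronglyCartesian f φ := by
  obtain ⟨b', ψ, hψ⟩ := exists_stronglyCartesian G (a := F.obj a) rfl f
  obtain ⟨b, φ, hφ⟩ := exists_stronglyCartesian F (a := a) rfl ψ
  refine ⟨b, φ, ?_⟩
  have hm : F.map φ = eqToHom (IsHomLift.domain_eq F ψ φ) ≫ ψ := by
    simpa using IsHomLift.fac' F ψ φ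
  have hb : G.obj (F.obj b) = R := by
    rw [IsHomLift.domain_eq F ψ φ]; exact IsHomLift.domain_eq G f ψ
  haveI : G.IsHomLift (𝟙 R) (eqToHom (IsHomLift.domain_eq F ψ φ)) :=
    IsHomLift.eqToHom_domain_lift_id _ hb
  haveI : G.IsStronglyCartesian f (F.map φ) := by
    rw [hm]
    simpa using (inferInstance : G.IsStronglyCartesian (𝟙 R ≫ f)
      (eqToHom (IsHomLift.domain_eq F ψ φ) ≫ ψ))
  haveI := isStronglyCartesian_map G f (F.map φ)
  haveI := isStronglyCartesian_map F ψ φ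
  haveI : (F ⋙ G).IsHomLift f φ :=
    IsHomLift.of_fac' _ f φ hb rfl (IsHomLift.fac' G f (F.map φ))
  exact (isStronglyCartesian_map_iff (F ⋙ G) f φ).mp (isStronglyCartesian_comp F G φ)

lemma isFibered_comp (F : A ⥤ B) (G : B ⥤ C) [F.IsFibered] [G.IsFibered] : (F ⋙ G).IsFibered :=
  IsFibered.of_exists_isStronglyCartesian (exists_stronglyCartesian_comp F G)

lemma isFibGrpd_comp (F : A ⥤ B) (G : B ⥤ C) [IsFibGrpd F] [IsFibGrpd G] :
    IsFibGrpd (F ⋙ G) where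
  exists_lift {x V} f := by
    obtain ⟨b, φ, hφ⟩ := exists_stronglyCartesian_comp F G x V f
    exact ⟨b, φ, hφ.toIsHomLift⟩
  isStronglyCartesian φ := isStronglyCartesian_comp F G φ

lemma over_eq {U : C} {x y : Over U} (h : x.left = y.left) (w : eqToHom h ≫ y.hom = x.hom) :
    x = y := by
  obtain ⟨xl, ⟨⟨⟩⟩, xh⟩ := x
  obtain ⟨yl, ⟨⟨⟩⟩, yh⟩ := y
  cases h
  simp only [eqToHom_refl, Category.id_comp] at w
  subst w
  rfl

lemma isHomLift_over {U : C} (p' : A ⥤ Over U) {R S : Over U} (f : R ⟶ S) {a b : A} (φ : a ⟶ b)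
    [(p' ⋙ Over.forget U).IsHomLift f.left φ] (hb : p'.obj b = S) : p'.IsHomLift f φ := by
  subst hb
  have e : (p'.obj a).left = R.left := IsHomLift.domain_eq (p' ⋙ Over.forget U) f.left φ
  have hm : (p'.map φ).left = eqToHom e ≫ f.left := by
    have := IsHomLift.fac' (p' ⋙ Over.forget U) f.left φ
    simpa using this
  have ha : p'.obj a = R := over_eq e (by
    rw [← Over.w f, ← Over.w (p'.map φ), hm, Category.assoc])
  refine IsHomLift.of_fac p' f φ ha rfl (Over.OverMorphism.ext ?_)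
  subst ha
  simp [hm]

lemma isHomLift_comp_forget {U : C} (p' : A ⥤ Over U) {R S : Over U} (f : R ⟶ S) {a b : A}
    (φ : a ⟶ b) [p'.IsHomLift f φ] : (p' ⋙ Over.forget U).IsHomLift f.left φ := by
  subst_hom_lift p' f φ
  exact IsHomLift.map (p' ⋙ Over.forget U) φ

lemma isStronglyCartesian_of_comp_forget {U : C} (p' : A ⥤ Over U) {R S : Over U} (f : R ⟶ S)
    {a b : A} (φ : a ⟶ b) [(p' ⋙ Over.forget U).IsStronglyCartesian f.left φ]
    [p'.IsHomLift f φ] : p'.IsStronglyCartesian f φ := by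
  constructor
  intro z g ψ hψ
  haveI : (p' ⋙ Over.forget U).IsHomLift (g.left ≫ f.left) ψ :=
    isHomLift_comp_forget p' (g ≫ f) ψ
  let χ := IsStronglyCartesian.map (p' ⋙ Over.forget U) f.left φ
    (f' := g.left ≫ f.left) (g := g.left) rfl ψ
  refine ⟨χ, ⟨isHomLift_over p' g χ (IsHomLift.domain_eq p' f φ),
    IsStronglyCartesian.fac _ _ _ _ _⟩, ?_⟩
  rintro χ' ⟨hχ', hχ''⟩
  haveI := isHomLift_comp_forget p' g χ'
  exact IsStronglyCartesian.map_uniq (p' ⋙ Over.forget U) f.left φ (g := g.left) rfl ψ χ' hχ''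

lemma exists_stronglyCartesian_of_comp_forget {U : C} (p' : A ⥤ Over U)
    [(p' ⋙ Over.forget U).IsFibered] (a : A) (R : Over U) (f : R ⟶ p'.obj a) :
    ∃ (b : A) (φ : b ⟶ a), p'.IsStronglyCartesian f φ := by
  obtain ⟨b, φ, hφ⟩ := exists_stronglyCartesian (p' ⋙ Over.forget U) (R := R.left)
    (S := (p'.obj a).left) (a := a) rfl f.left
  haveI := isHomLift_over p' f φ rfl
  exact ⟨b, φ, isStronglyCartesian_of_comp_forget p' f φ⟩

lemma isFibered_of_comp_forget {U : C} (p' : A ⥤ Over U) [(p' ⋙ Over.forget U).IsFibered] :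
    p'.IsFibered :=
  IsFibered.of_exists_isStronglyCartesian (exists_stronglyCartesian_of_comp_forget p')

lemma isFibGrpd_of_comp_forget {U : C} (p' : A ⥤ Over U) [IsFibGrpd (p' ⋙ Over.forget U)] :
    IsFibGrpd p' where
  exists_lift {x V} f := by
    obtain ⟨b, φ, hφ⟩ := exists_stronglyCartesian_of_comp_forget p' x V f
    exact ⟨b, φ, hφ.toIsHomLift⟩
  isStronglyCartesian φ := by
    haveI : (p' ⋙ Over.forget U).IsStronglyCartesian (p'.map φ).left φ :=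
      IsFibGrpd.isStronglyCartesian (p := p' ⋙ Over.forget U) φ
    exact isStronglyCartesian_of_comp_forget p' (p'.map φ) φ

lemma isFibGrpd_cartSubProj (p : A ⥤ C) [p.IsFibered] : IsFibGrpd (cartSubProj p) where
  exists_lift {x V} f := by
    let f' : V ⟶ p.obj x.obj := f
    obtain ⟨b, φ, hφ⟩ := exists_stronglyCartesian p (a := x.obj) rfl f'
    let φ' : (⟨b⟩ : cartSub p) ⟶ x := ⟨φ, isStronglyCartesian_map p f' φ⟩
    haveI hl : p.IsHomLift f' φ := hφ.toIsHomLift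
    exact ⟨⟨b⟩, φ', IsHomLift.of_fac (cartSubProj p) f φ'
      (@IsHomLift.domain_eq _ _ _ _ p _ _ _ _ f' φ hl) rfl
      (@IsHomLift.fac _ _ _ _ p _ _ _ _ f' φ hl)⟩
  isStronglyCartesian {y x} φ := by
    constructor
    intro z g₀ ψ hψ
    obtain ⟨g, rfl⟩ : ∃ g : p.obj z.obj ⟶ p.obj y.obj, g = g₀ := ⟨g₀, rfl⟩
    haveI : p.IsStronglyCartesian (p.map φ.hom) φ.hom := φ.property
    haveI : p.IsStronglyCartesian (p.map ψ.hom) ψ.hom := ψ.property
    have hg : g ≫ p.map φ.hom = p.map ψ.hom :=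
      @IsHomLift.eq_of_isHomLift _ _ _ _ (cartSubProj p) _ _ _ ψ hψ
    haveI : p.IsHomLift (g ≫ p.map φ.hom) ψ.hom := by rw [hg]; exact IsHomLift.map p ψ.hom
    let χ : z.obj ⟶ y.obj :=
      IsStronglyCartesian.map p (p.map φ.hom) φ.hom (g := g) rfl ψ.hom
    have hχ : χ ≫ φ.hom = ψ.hom := IsStronglyCartesian.fac _ _ _ _ _
    have hgχ : g = p.map χ := IsHomLift.eq_of_isHomLift p g χ
    haveI : p.IsStronglyCartesian (p.map χ ≫ p.map φ.hom) (χ ≫ φ.hom) := by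
      rw [hχ, ← hgχ, hg]; infer_instance
    haveI : p.IsStronglyCartesian (p.map χ) χ :=
      IsStronglyCartesian.of_comp (g := p.map φ.hom) (ψ := φ.hom) p
    let χ' : z ⟶ y := ⟨χ, ‹_›⟩
    refine ⟨χ', ⟨?_, ?_⟩, ?_⟩
    · rw [hgχ]
      exact IsHomLift.map (cartSubProj p) χ'
    · ext; exact hχ
    · rintro θ ⟨hθ, hθ'⟩
      ext
      haveI : p.IsHomLift g θ.hom := by
        rw [@IsHomLift.eq_of_isHomLift _ _ _ _ (cartSubProj p) _ _ g θ hθ]
        exact IsHomLift.map p θ.hom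
      exact IsStronglyCartesian.map_uniq p (p.map φ.hom) φ.hom (g := g) rfl ψ.hom θ.hom
        (congrArg (·.hom) hθ')

end Comp

end FibLib
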