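/-
Lemmas about cleavages.
-/
import Groth.Prelude.Def_FibClv

set_option autoImplicit false
set_option backward.isDefEq.respectTransparency false
set_option backward.isDefEq.respectTransparency.types false

universe v₁ v₂ u₁ u₂

open CategoryTheory CategoryTheory.Functor

namespace FibLib

variable {𝒮 : Type u₁} {𝒳 : Type u₂} [Category.{v₁} 𝒮] [Category.{v₂} 𝒳] {p : 𝒳 ⥤ 𝒮}
  (K : FibCat.Cleavage p)

@[reassoc (attr := simp)]
lemma congr_lift {R S : 𝒮} {f f' : R ⟶ S} (h : f = f') (a : p.Fiber S) :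
    Fiber.fiberInclusion.map ((K.inverseImageCongr h).hom.app a) ≫ K.lift a.2 f' = K.lift a.2 f := by
  subst h
  simp only [FibCat.Cleavage.inverseImageCongr, eqToIso_refl, Iso.refl_hom, NatTrans.id_app,
    CategoryTheory.Functor.map_id]
  exact Category.id_comp _

@[reassoc (attr := simp)]
lemma comp_lift {R S T : 𝒮} (f : T ⟶ S) (g : R ⟶ T) (a : p.Fiber S) :
    Fiber.fiberInclusion.map ((K.comp f g).app a) ≫ K.lift a.2 (g ≫ f) =
      K.lift (K.obj_proj a.2 f) g ≫ K.lift a.2 f := by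
  rw [FibCat.Cleavage.comp_app]
  exact IsCartesian.fac p (g ≫ f) (K.lift a.2 (g ≫ f)) _

@[reassoc (attr := simp)]
lemma inverseImage_lift {R S : 𝒮} (f : R ⟶ S) {a b : p.Fiber S} (φ : a ⟶ b) :
    Fiber.fiberInclusion.map ((K.inverseImage f).map φ) ≫ K.lift b.2 f =
      K.lift a.2 f ≫ Fiber.fiberInclusion.map φ := by
  rw [FibCat.Cleavage.inverseImage_map]
  exact IsCartesian.fac p f (K.lift b.2 f) _

/-- A vertical isomorphism in the total category gives an isomorphism of the fibre. -/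
lemma isIso_homMk {S : 𝒮} {a b : 𝒳} (φ : a ⟶ b) [p.IsHomLift (𝟙 S) φ] [IsIso φ] :
    IsIso (Fiber.homMk p S φ) := by
  haveI : p.IsHomLift (𝟙 S) (inv φ) := inferInstance
  exact ⟨Fiber.homMk p S (inv φ), Fiber.hom_ext (IsIso.hom_inv_id φ), Fiber.hom_ext (IsIso.inv_hom_id φ)⟩

end FibLib
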