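/-
The Grothendieck construction of a strict functor to categories.
-/
import Mathlib.CategoryTheory.FiberedCategory.Grothendieck
import Mathlib.CategoryTheory.Bicategory.Functor.LocallyDiscrete

set_option autoImplicit false
set_option backward.isDefEq.respectTransparency false
set_option backward.isDefEq.respectTransparency.types false
set_option backward.defeqAttrib.useBackward true

universe v₁ v₂ u₁ u₂

open CategoryTheory Opposite Pseudofunctor

namespace FibLib

variable {𝒮 : Type u₁} [Category.{v₁} 𝒮] {F : 𝒮ᵒᵖ ⥤ Cat.{v₂, u₂}}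

/-- Objects of the strict Grothendieck construction. -/
abbrev El (F : 𝒮ᵒᵖ ⥤ Cat.{v₂, u₂}) := CoGrothendieck F.toPseudofunctor'

@[simp]
lemma eqToHom₂_app {C D : Cat.{v₂, u₂}} {G H : C ⟶ D} (h : G = H) (x : C) :
    (eqToHom h).toNatTrans.app x = eqToHom (by rw [h]) := by
  subst h
  simp

lemma strict_id_fiber (X : El F) :
    (𝟙 X : X ⟶ X).fiber = eqToHom (by
      show X.fiber = (F.map (𝟙 (op X.base))).toFunctor.obj X.fiber
      rw [F.map_id]; rfl) := by
  simp [Functor.toPseudofunctor'_mapId]

lemma strict_comp_fiber {X Y Z : El F} (f : X ⟶ Y) (g : Y ⟶ Z) :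
    (f ≫ g).fiber = f.fiber ≫ (F.map f.base.op).toFunctor.map g.fiber ≫ eqToHom (by
      show (F.map f.base.op).toFunctor.obj ((F.map g.base.op).toFunctor.obj Z.fiber) =
        (F.map (f.base ≫ g.base).op).toFunctor.obj Z.fiber
      rw [op_comp, F.map_comp]; rfl) := by
  simp [Functor.toPseudofunctor'_mapComp]
  rfl

lemma eqToHom_base {X Y : El F} (h : X = Y) :
    (eqToHom h).base = eqToHom (congrArg CoGrothendieck.base h) := by
  subst h
  rfl

lemma eqToHom_fiber {X Y : El F} (h : X = Y) :
    (eqToHom h).fiber = eqToHom (by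
      subst h
      show X.fiber = (F.map (𝟙 (op X.base))).toFunctor.obj X.fiber
      rw [F.map_id]; rfl) := by
  subst h
  exact strict_id_fiber X

end FibLib
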