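/-
A category with a splitting is a strict Grothendieck construction.
-/
import Groth.Agent.FibLib.Strict
import Groth.Agent.FibLib.Clv

set_option autoImplicit false
set_option backward.isDefEq.respectTransparency false
set_option backward.isDefEq.respectTransparency.types false
set_option backward.defeqAttrib.useBackward true
set_option linter.unusedSectionVars false

universe v₁ v₂ u₁ u₂

open CategoryTheory CategoryTheory.Functor Opposite Pseudofunctor

namespace FibLib.OfSpl

variable {𝒮 : Type u₁} [Category.{v₁} 𝒮] {𝒳 : Type u₂} [Category.{v₂} 𝒳] {p : 𝒳 ⥤ 𝒮}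
  {K : FibCat.Cleavage p} (hK : K.IsSplitting)

lemma eqTo_map {S : 𝒮} {a b : p.Fiber S} (e : a = b) :
    Fiber.fiberInclusion.map (eqToHom e) = eqToHom (congrArg Subtype.val e) := by
  subst e
  rfl

include hK in
lemma inverseImage_id (S : 𝒮) : K.inverseImage (𝟙 S) = 𝟭 (p.Fiber S) := by
  refine CategoryTheory.Functor.ext (fun a => Subtype.ext (hK.1 a.2).choose) fun a b φ => ?_
  apply Fiber.hom_ext
  apply IsCartesian.ext p (𝟙 S) (K.lift b.2 (𝟙 S))
  simp only [Functor.map_comp, Category.assoc, eqTo_map, Functor.id_map, FibLib.inverseImage_lift]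
  obtain ⟨h₁, e₁⟩ := hK.1 a.2
  obtain ⟨h₂, e₂⟩ := hK.1 b.2
  simp only [e₁, e₂]
  simp

include hK in
lemma inverseImage_comp {S T U : 𝒮} (f : T ⟶ S) (g : U ⟶ T) :
    K.inverseImage (g ≫ f) = K.inverseImage f ⋙ K.inverseImage g := by
  refine CategoryTheory.Functor.ext (fun a => Subtype.ext (hK.2 f g a.2).choose.symm) fun a b φ => ?_
  apply Fiber.hom_ext
  apply IsCartesian.ext p (g ≫ f) (K.lift b.2 (g ≫ f))
  simp only [Functor.map_comp, Category.assoc, eqTo_map, Functor.comp_map, FibLib.inverseImage_lift]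
  have ha := (hK.2 f g a.2).choose_spec
  have hb := (hK.2 f g b.2).choose_spec
  have hb' := (eqToHom_comp_iff _ _ _).1 hb.symm
  simp only [hb']
  simp only [eqToHom_trans_assoc, eqToHom_refl, Category.id_comp, Category.assoc]
  erw [FibLib.inverseImage_lift_assoc K g ((K.inverseImage f).map φ), FibLib.inverseImage_lift K f φ]
  erw [reassoc_of% ha]
  simp

/-- The strict functor of a splitting. -/
noncomputable def F : 𝒮ᵒᵖ ⥤ Cat.{v₂, u₂} where
  obj U := Cat.of (p.Fiber U.unop)
  map h := (K.inverseImage h.unop).toCatHom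
  map_id U := Cat.Hom.ext (inverseImage_id hK U.unop)
  map_comp f g := Cat.Hom.ext (inverseImage_comp hK f.unop g.unop)

/-- Morphism of the Grothendieck construction in the original category. -/
noncomputable def tot {A B : El (F hK)} (m : A ⟶ B) : (A.fiber : p.Fiber A.base).1 ⟶ (B.fiber : p.Fiber B.base).1 :=
  Fiber.fiberInclusion.map (show (A.fiber : p.Fiber A.base) ⟶ (K.inverseImage m.base).obj B.fiber from m.fiber) ≫
    K.lift (B.fiber : p.Fiber B.base).2 m.base

instance tot_isHomLift {A B : El (F hK)} (m : A ⟶ B) : p.IsHomLift m.base (tot hK m) :=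
  IsHomLift.comp_lift_id_left p m.base (K.lift (B.fiber : p.Fiber B.base).2 m.base)
    (Fiber.fiberInclusion.map (show (A.fiber : p.Fiber A.base) ⟶ (K.inverseImage m.base).obj B.fiber from m.fiber))

lemma hom_ext {A B : El (F hK)} {m n : A ⟶ B} (h : m.base = n.base) (h' : tot hK m = tot hK n) : m = n := by
  obtain ⟨b, φ⟩ := m
  obtain ⟨b', ψ⟩ := n
  subst h
  congr 1
  exact Fiber.hom_ext (IsCartesian.ext p b (K.lift (B.fiber : p.Fiber B.base).2 b) _ _ h')

lemma tot_id (A : El (F hK)) : tot hK (𝟙 A) = 𝟙 _ := by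
  obtain ⟨h, hh⟩ := hK.1 (A.fiber : p.Fiber A.base).2
  unfold tot
  show Fiber.fiberInclusion.map (show (A.fiber : p.Fiber A.base) ⟶ (K.inverseImage (𝟙 A.base)).obj A.fiber
    from (𝟙 A : A ⟶ A).fiber) ≫ K.lift _ (𝟙 A.base) = _
  rw [hh, strict_id_fiber]
  erw [eqTo_map (Subtype.ext h.symm : (A.fiber : p.Fiber A.base) = (K.inverseImage (𝟙 A.base)).obj A.fiber)]
  exact eqToHom_trans _ _

lemma tot_comp {A B D : El (F hK)} (m : A ⟶ B) (n : B ⟶ D) : tot hK (m ≫ n) = tot hK m ≫ tot hK n := by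
  obtain ⟨h, hh⟩ := hK.2 n.base m.base (D.fiber : p.Fiber D.base).2
  let fm : (A.fiber : p.Fiber A.base) ⟶ (K.inverseImage m.base).obj B.fiber := m.fiber
  let fn : (B.fiber : p.Fiber B.base) ⟶ (K.inverseImage n.base).obj D.fiber := n.fiber
  let e : (K.inverseImage m.base).obj ((K.inverseImage n.base).obj D.fiber) =
      (K.inverseImage (m.base ≫ n.base)).obj (D.fiber : p.Fiber D.base) := Subtype.ext h
  have hc : (show (A.fiber : p.Fiber A.base) ⟶ (K.inverseImage (m.base ≫ n.base)).obj D.fiber from (m ≫ n).fiber) =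
      fm ≫ (K.inverseImage m.base).map fn ≫ eqToHom e := strict_comp_fiber m n
  show Fiber.fiberInclusion.map (show (A.fiber : p.Fiber A.base) ⟶ (K.inverseImage (m.base ≫ n.base)).obj D.fiber
      from (m ≫ n).fiber) ≫ K.lift (D.fiber : p.Fiber D.base).2 (m.base ≫ n.base) =
    (Fiber.fiberInclusion.map fm ≫ K.lift (B.fiber : p.Fiber B.base).2 m.base) ≫
      Fiber.fiberInclusion.map fn ≫ K.lift (D.fiber : p.Fiber D.base).2 n.base
  rw [hc, Functor.map_comp, Functor.map_comp, eqTo_map e, Category.assoc, Category.assoc, Category.assoc]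
  erw [← hh, FibLib.inverseImage_lift_assoc K m.base fn]

/-- The comparison functor to the original category. -/
noncomputable def Ψ : El (F hK) ⥤ 𝒳 where
  obj A := (A.fiber : p.Fiber A.base).1
  map m := tot hK m
  map_id := tot_id hK
  map_comp := tot_comp hK

/-- The comparison functor from the original category. -/
noncomputable def Φ : 𝒳 ⥤ El (F hK) where
  obj a := ⟨p.obj a, (⟨a, rfl⟩ : p.Fiber (p.obj a))⟩
  map {a b} φ := ⟨p.map φ, Fiber.homMk p (p.obj a) (IsCartesian.map p (p.map φ) (K.lift rfl (p.map φ)) φ)⟩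
  map_id a := hom_ext hK (p.map_id a) (by
    rw [tot_id]
    exact IsCartesian.fac p (p.map (𝟙 a)) (K.lift rfl (p.map (𝟙 a))) (𝟙 a))
  map_comp {a b c} φ ψ := hom_ext hK (p.map_comp φ ψ) (by
    rw [tot_comp]
    exact (IsCartesian.fac p (p.map (φ ≫ ψ)) (K.lift rfl (p.map (φ ≫ ψ))) (φ ≫ ψ)).trans
      (congrArg₂ (· ≫ ·) (IsCartesian.fac p (p.map φ) (K.lift rfl (p.map φ)) φ).symm
        (IsCartesian.fac p (p.map ψ) (K.lift rfl (p.map ψ)) ψ).symm))

lemma Φ_Ψ : Φ hK ⋙ Ψ hK = 𝟭 𝒳 :=
  CategoryTheory.Functor.ext (fun _ => rfl) fun a b φ => by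
    simp only [Functor.comp_map, eqToHom_refl, Category.id_comp, Category.comp_id, Functor.id_map]
    exact IsCartesian.fac p (p.map φ) (K.lift rfl (p.map φ)) φ

lemma Ψ_Φ : Ψ hK ⋙ Φ hK = 𝟭 _ := by
  refine CategoryTheory.Functor.ext (fun A => ?_) fun A B m => ?_
  · obtain ⟨U, ⟨x, hx⟩⟩ := A
    change p.obj x = U at hx
    subst hx
    rfl
  · obtain ⟨U, ⟨x, hx⟩⟩ := A
    obtain ⟨V, ⟨y, hy⟩⟩ := B
    change p.obj x = U at hx
    subst hx
    change p.obj y = V at hy
    subst hy
    simp only [Functor.comp_map, eqToHom_refl, Category.id_comp, Category.comp_id, Functor.id_map]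
    exact hom_ext hK (IsHomLift.eq_of_isHomLift p m.base (tot hK m)).symm
      (IsCartesian.fac p (p.map (tot hK m)) (K.lift rfl (p.map (tot hK m))) (tot hK m))

lemma Φ_forget : Φ hK ⋙ CoGrothendieck.forget (F hK).toPseudofunctor' = p := rfl

end FibLib.OfSpl
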