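/-
Fibred and cofibred categories.
-/
import Mathlib.CategoryTheory.FiberedCategory.Fibered

set_option autoImplicit false

universe v₁ v₂ u₁ u₂

open CategoryTheory Opposite

namespace FibLib

variable {𝒮 : Type u₁} {𝒳 : Type u₂} [Category.{v₁} 𝒮] [Category.{v₂} 𝒳] (p : 𝒳 ⥤ 𝒮)

lemma op_lift {R S : 𝒮} {a b : 𝒳} {f : R ⟶ S} {φ : a ⟶ b} (h : p.IsHomLift f φ) :
    p.op.IsHomLift f.op φ.op := by
  cases h
  exact IsHomLift.map p.op φ.op

lemma unop_lift {R S : 𝒮ᵒᵖ} {a b : 𝒳ᵒᵖ} {f : R ⟶ S} {φ : a ⟶ b} (h : p.op.IsHomLift f φ) :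
    p.IsHomLift f.unop φ.unop := by
  cases h
  exact IsHomLift.map p φ.unop

/-- A fibred category which is co-prefibred is cofibred. -/
theorem op_isFibered [p.IsFibered] [p.op.IsPreFibered] : p.op.IsFibered where
  comp := by
    intro R S T f g a b c φ ψ hφ hψ
    haveI := unop_lift p hφ.toIsHomLift
    haveI := unop_lift p hψ.toIsHomLift
    haveI : p.IsHomLift (f ≫ g).unop (φ ≫ ψ).unop := by
      rw [unop_comp, unop_comp]
      infer_instance
    haveI : p.op.IsHomLift (f ≫ g) (φ ≫ ψ) := inferInstance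
    refine { universal_property := fun {a'} χ' hχ => ?_ }
    haveI := unop_lift p hχ
    have hf : p.obj a'.unop = R.unop := IsHomLift.codomain_eq p (f ≫ g).unop χ'.unop
    let β := Functor.IsPreFibered.pullbackMap hf f.unop
    haveI : p.IsHomLift (g.unop ≫ f.unop) χ'.unop := by rw [← unop_comp]; infer_instance
    let τ := Functor.IsStronglyCartesian.map p f.unop β (f' := g.unop ≫ f.unop) rfl χ'.unop
    have hτ : τ ≫ β = χ'.unop := Functor.IsStronglyCartesian.fac p f.unop β rfl χ'.unop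
    haveI : p.op.IsHomLift g τ.op := op_lift p (inferInstanceAs (p.IsHomLift g.unop τ))
    obtain ⟨σ, ⟨hσ, hσ'⟩, hσu⟩ := Functor.IsCartesian.universal_property (p := p.op) (f := g) (φ := ψ) τ.op
    haveI := unop_lift p hσ
    haveI : p.IsHomLift (𝟙 S.unop) σ.unop := inferInstanceAs (p.IsHomLift (𝟙 S).unop σ.unop)
    haveI : p.op.IsHomLift f (σ.unop ≫ β).op := op_lift p (inferInstanceAs (p.IsHomLift f.unop (σ.unop ≫ β)))
    obtain ⟨ω, ⟨hω, hω'⟩, hωu⟩ := Functor.IsCartesian.universal_property (p := p.op) (f := f) (φ := φ) (σ.unop ≫ β).op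
    refine ⟨ω, ⟨hω, ?_⟩, fun ω₁ ⟨h₁, h₁'⟩ => hωu ω₁ ⟨h₁, ?_⟩⟩
    · rw [← Category.assoc, hω', op_comp, Category.assoc, Quiver.Hom.op_unop, hσ', ← op_comp, hτ,
        Quiver.Hom.op_unop]
    · haveI := unop_lift p h₁
      haveI : p.IsHomLift (𝟙 R.unop) ω₁.unop := inferInstanceAs (p.IsHomLift (𝟙 R).unop ω₁.unop)
      haveI : p.IsHomLift f.unop (φ.unop ≫ ω₁.unop) := inferInstance
      let σ₁ := Functor.IsCartesian.map p f.unop β (φ.unop ≫ ω₁.unop)
      have hσ₁ : σ₁ ≫ β = φ.unop ≫ ω₁.unop := Functor.IsCartesian.fac p f.unop β _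
      haveI : p.op.IsHomLift (𝟙 S) σ₁.op := op_lift p (inferInstanceAs (p.IsHomLift (𝟙 S.unop) σ₁))
      haveI : p.IsHomLift g.unop (ψ.unop ≫ σ₁) := inferInstance
      have h₂ : ψ.unop ≫ σ₁ = τ := Functor.IsStronglyCartesian.map_uniq p f.unop β rfl χ'.unop _ (by
        rw [Category.assoc, hσ₁, ← h₁']
        simp)
      have h₃ : σ₁.op = σ := hσu _ ⟨inferInstance, by rw [← h₂]; simp⟩
      rw [← h₃, Quiver.Hom.unop_op, hσ₁]
      simp

/-- The converse, for a prefibred category. -/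
theorem isFibered_of_op [p.IsPreFibered] [hp : p.op.IsFibered] : p.IsFibered := by
  haveI : p.op.op.IsPreFibered := ⟨fun {a R} f => by
    obtain ⟨b, φ, hφ⟩ := IsPreFibered.exists_isCartesian p (a := a.unop.unop) rfl f.unop.unop
    refine ⟨op (op b), φ.op.op, ?_⟩
    haveI : p.op.op.IsHomLift f φ.op.op := op_lift p.op (op_lift p hφ.toIsHomLift)
    refine { universal_property := fun {a'} χ hχ => ?_ }
    haveI := unop_lift p (unop_lift p.op hχ)
    obtain ⟨ω, ⟨hω, hω'⟩, hu⟩ := Functor.IsCartesian.universal_property (p := p) (f := f.unop.unop) (φ := φ) χ.unop.unop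
    refine ⟨ω.op.op, ⟨op_lift p.op (op_lift p hω), congrArg (fun z => z.op.op) hω'⟩, fun ω₁ ⟨h₁, h₁'⟩ => ?_⟩
    exact congrArg (fun z => z.op.op) (hu ω₁.unop.unop ⟨unop_lift p (unop_lift p.op h₁), congrArg (fun z => z.unop.unop) h₁'⟩)⟩
  have h := op_isFibered p.op
  refine { comp := fun {R S T} f g {a b c} φ ψ hφ hψ => ?_ }
  have conv : ∀ {R S : 𝒮} {a b : 𝒳} (f : R ⟶ S) (φ : a ⟶ b),
      p.IsCartesian f φ ↔ p.op.op.IsCartesian f.op.op φ.op.op := by
    intro R S a b f φ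
    constructor
    · intro hφ
      haveI : p.op.op.IsHomLift f.op.op φ.op.op := op_lift p.op (op_lift p hφ.toIsHomLift)
      refine { universal_property := fun {a'} χ hχ => ?_ }
      haveI : p.IsHomLift f χ.unop.unop := unop_lift p (unop_lift p.op hχ)
      obtain ⟨ω, ⟨hω, hω'⟩, hu⟩ := Functor.IsCartesian.universal_property (p := p) (f := f) (φ := φ) χ.unop.unop
      refine ⟨ω.op.op, ⟨op_lift p.op (op_lift p hω), congrArg (fun z => z.op.op) hω'⟩, fun ω₁ ⟨h₁, h₁'⟩ => ?_⟩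
      exact congrArg (fun z => z.op.op) (hu ω₁.unop.unop ⟨unop_lift p (unop_lift p.op h₁), congrArg (fun z => z.unop.unop) h₁'⟩)
    · intro hφ
      haveI : p.IsHomLift f φ := unop_lift p (unop_lift p.op hφ.toIsHomLift)
      refine { universal_property := fun {a'} χ hχ => ?_ }
      haveI : p.op.op.IsHomLift f.op.op χ.op.op := op_lift p.op (op_lift p hχ)
      obtain ⟨ω, ⟨hω, hω'⟩, hu⟩ := Functor.IsCartesian.universal_property (p := p.op.op) (f := f.op.op) (φ := φ.op.op) χ.op.op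
      refine ⟨ω.unop.unop, ⟨unop_lift p (unop_lift p.op hω), congrArg (fun z => z.unop.unop) hω'⟩, fun ω₁ ⟨h₁, h₁'⟩ => ?_⟩
      exact congrArg (fun z => z.unop.unop) (hu ω₁.op.op ⟨op_lift p.op (op_lift p h₁), congrArg (fun z => z.op.op) h₁'⟩)
  haveI := (conv f φ).1 hφ
  haveI := (conv g ψ).1 hψ
  exact (conv (f ≫ g) (φ ≫ ψ)).2 (h.comp f.op.op g.op.op φ.op.op ψ.op.op)

end FibLib
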