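/-
The split category equivalent to a fibred category.
-/
import Groth.Agent.FibLib.Strict
import Groth.Agent.FibLib.Clv
import Mathlib.CategoryTheory.FiberedCategory.BasedCategory

set_option autoImplicit false
set_option backward.isDefEq.respectTransparency false
set_option backward.isDefEq.respectTransparency.types false
set_option backward.defeqAttrib.useBackward true
set_option linter.unusedSectionVars false

universe v u

open CategoryTheory CategoryTheory.Functor Opposite Pseudofunctor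

namespace FibLib.Spl

variable {C : Type u} [Category.{v} C] {X : Type (max u v)} [Category.{v} X] {p : X ⥤ C}
  [p.IsFibered] (K : FibCat.Cleavage p)

/-- A formal inverse image. -/
structure Rep (p : X ⥤ C) (U : C) where
  /-- the base -/
  base : C
  /-- the morphism -/
  hom : U ⟶ base
  /-- the object -/
  obj : p.Fiber base

/-- The object represented by a formal inverse image. -/
noncomputable abbrev dom {U : C} (A : Rep p U) : p.Fiber U := (K.inverseImage A.hom).obj A.obj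

/-- The fibre of the split category. -/
def Fib (K : FibCat.Cleavage p) (U : C) : Type (max u v) := Rep p U

noncomputable instance (U : C) : Category.{v} (Fib K U) where
  Hom A B := dom K A ⟶ dom K B
  id A := 𝟙 _
  comp f g := f ≫ g

/-- The underlying morphism. -/
noncomputable abbrev arr {U : C} {A B : Fib K U} (χ : A ⟶ B) : K.obj A.obj.2 A.hom ⟶ K.obj B.obj.2 B.hom :=
  Fiber.fiberInclusion.map (χ : dom K A ⟶ dom K B)

instance {U : C} {A B : Fib K U} (χ : A ⟶ B) : p.IsHomLift (𝟙 U) (arr K χ) :=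
  inferInstanceAs (p.IsHomLift (𝟙 U) (Fiber.fiberInclusion.map (χ : dom K A ⟶ dom K B)))

lemma arr_id {U : C} (A : Fib K U) : arr K (𝟙 A) = 𝟙 _ := rfl

lemma arr_comp {U : C} {A B D : Fib K U} (f : A ⟶ B) (g : B ⟶ D) :
    arr K (f ≫ g) = arr K f ≫ arr K g := rfl

lemma fib_ext {U : C} {A B : Fib K U} {f g : A ⟶ B}
    (h : arr K f ≫ K.lift B.obj.2 B.hom = arr K g ≫ K.lift B.obj.2 B.hom) : f = g :=
  Fiber.hom_ext (IsCartesian.ext p B.hom (K.lift B.obj.2 B.hom) _ _ h)

lemma arr_eqToHom {U : C} {A B : Fib K U} (h : A = B) :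
    arr K (eqToHom h) = eqToHom (congrArg (fun D : Fib K U => K.obj D.obj.2 D.hom) h) := by
  subst h
  rfl

lemma lift_eqToHom {U : C} {A : Rep p U} {f : U ⟶ A.base} (e : A.hom = f) :
    eqToHom (congrArg (K.obj A.obj.2) e) ≫ K.lift A.obj.2 f = K.lift A.obj.2 A.hom := by
  subst e
  simp

/-- The pullback of formal inverse images. -/
def res {U V : C} (h : V ⟶ U) (A : Fib K U) : Fib K V := ⟨A.base, h ≫ A.hom, A.obj⟩

/-- The comparison morphism over `h`. -/
noncomputable def σ {U V : C} (h : V ⟶ U) (A : Fib K U) :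
    K.obj A.obj.2 (h ≫ A.hom) ⟶ K.obj A.obj.2 A.hom :=
  IsStronglyCartesian.map p A.hom (K.lift A.obj.2 A.hom) (f' := h ≫ A.hom) rfl
    (K.lift A.obj.2 (h ≫ A.hom))

instance {U V : C} (h : V ⟶ U) (A : Fib K U) : p.IsHomLift h (σ K h A) := by
  unfold σ; infer_instance

@[reassoc]
lemma σ_lift {U V : C} (h : V ⟶ U) (A : Fib K U) :
    σ K h A ≫ K.lift A.obj.2 A.hom = K.lift A.obj.2 (h ≫ A.hom) :=
  IsStronglyCartesian.fac p A.hom (K.lift A.obj.2 A.hom) rfl _

instance {U V : C} (h : V ⟶ U) (A : Fib K U) : p.IsStronglyCartesian h (σ K h A) := by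
  haveI : p.IsStronglyCartesian (h ≫ A.hom) (σ K h A ≫ K.lift A.obj.2 A.hom) := by
    rw [σ_lift]; infer_instance
  exact IsStronglyCartesian.of_comp p (f := h) (g := A.hom) (φ := σ K h A) (ψ := K.lift A.obj.2 A.hom)

lemma σ_ext {U V : C} (h : V ⟶ U) (A : Fib K U) {a : X} {k : a ⟶ K.obj A.obj.2 A.hom}
    [p.IsHomLift h k] {k' : a ⟶ K.obj A.obj.2 A.hom} [p.IsHomLift h k']
    (e : k ≫ K.lift A.obj.2 A.hom = k' ≫ K.lift A.obj.2 A.hom) : k = k' :=
  IsStronglyCartesian.ext p A.hom (K.lift A.obj.2 A.hom) h e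

/-- Transition functor. -/
noncomputable def resF {U V : C} (h : V ⟶ U) : Fib K U ⥤ Fib K V where
  obj := res K h
  map {A B} χ := Fiber.homMk p V (IsCartesian.map p h (σ K h B) (σ K h A ≫ arr K χ))
  map_id A := by
    apply Fiber.hom_ext
    refine (IsCartesian.map_uniq p h (σ K h A) _ _ ?_).symm
    show 𝟙 _ ≫ σ K h A = σ K h A ≫ 𝟙 _
    simp
  map_comp {A B D} f g := by
    apply Fiber.hom_ext
    refine (IsCartesian.map_uniq p h (σ K h D) _ _ ?_).symm
    show (IsCartesian.map p h (σ K h B) (σ K h A ≫ arr K f) ≫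
      IsCartesian.map p h (σ K h D) (σ K h B ≫ arr K g)) ≫ σ K h D = σ K h A ≫ arr K f ≫ arr K g
    simp only [Category.assoc, IsCartesian.fac, IsCartesian.fac_assoc]

@[reassoc]
lemma arr_resF {U V : C} (h : V ⟶ U) {A B : Fib K U} (χ : A ⟶ B) :
    arr K ((resF K h).map χ) ≫ σ K h B = σ K h A ≫ arr K χ :=
  IsCartesian.fac p h (σ K h B) _

@[reassoc]
lemma arr_resF_lift {U V : C} (h : V ⟶ U) {A B : Fib K U} (χ : A ⟶ B) :
    arr K ((resF K h).map χ) ≫ K.lift B.obj.2 (h ≫ B.hom) =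
      σ K h A ≫ arr K χ ≫ K.lift B.obj.2 B.hom := by
  rw [← σ_lift, arr_resF_assoc]

lemma σ_id {U : C} (A : Fib K U) :
    σ K (𝟙 U) A = eqToHom (congrArg (K.obj A.obj.2) (Category.id_comp A.hom)) := by
  haveI : p.IsHomLift (𝟙 U)
      (eqToHom (congrArg (K.obj A.obj.2) (Category.id_comp A.hom)) : K.obj A.obj.2 (𝟙 U ≫ A.hom) ⟶ _) :=
    IsHomLift.eqToHom_codomain_lift_id _ (K.obj_proj A.obj.2 A.hom)
  refine σ_ext K (𝟙 U) A ?_
  rw [σ_lift]
  exact (lift_eqToHom K (A := res K (𝟙 U) A) (Category.id_comp A.hom)).symm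

lemma σ_comp {U V W : C} (h : V ⟶ U) (k : W ⟶ V) (A : Fib K U) :
    σ K k (res K h A) ≫ σ K h A =
      eqToHom (congrArg (K.obj A.obj.2) (Category.assoc k h A.hom).symm) ≫ σ K (k ≫ h) A := by
  haveI : p.IsHomLift (k ≫ h) (σ K k (res K h A) ≫ σ K h A) := IsHomLift.comp p k h (σ K k (res K h A)) (σ K h A)
  refine σ_ext K (k ≫ h) A ?_
  simp only [Category.assoc, σ_lift]
  exact (σ_lift K k (res K h A)).trans (lift_eqToHom K (A := res K k (res K h A)) (Category.assoc k h A.hom).symm).symm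

lemma res_id {U : C} (A : Fib K U) : res K (𝟙 U) A = A := by
  obtain ⟨S, f, x⟩ := A
  simp [res]

lemma res_comp {U V W : C} (h : V ⟶ U) (k : W ⟶ V) (A : Fib K U) :
    res K (k ≫ h) A = res K k (res K h A) := by
  simp [res]

lemma resF_id (U : C) : resF K (𝟙 U) = 𝟭 (Fib K U) := by
  refine CategoryTheory.Functor.ext (res_id K) fun A B χ => fib_ext K ?_
  show arr K ((resF K (𝟙 U)).map χ) ≫ K.lift B.obj.2 (𝟙 U ≫ B.hom) = _
  rw [arr_resF_lift, σ_id]
  simp only [arr_comp, arr_eqToHom, Category.assoc, Functor.id_map]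
  congr 1
  exact congrArg _ (lift_eqToHom K (A := B) (Category.id_comp B.hom).symm).symm

lemma resF_comp {U V W : C} (h : V ⟶ U) (k : W ⟶ V) :
    resF K (k ≫ h) = resF K h ⋙ resF K k := by
  refine CategoryTheory.Functor.ext (res_comp K h k) fun A B χ => fib_ext K ?_
  show arr K ((resF K (k ≫ h)).map χ) ≫ K.lift B.obj.2 ((k ≫ h) ≫ B.hom) = _
  rw [arr_resF_lift]
  simp only [arr_comp, arr_eqToHom, Category.assoc, Functor.comp_map]
  refine Eq.trans ?_ (congrArg (fun z => eqToHom _ ≫ arr K ((resF K k).map ((resF K h).map χ)) ≫ z)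
    (lift_eqToHom K (A := res K k (res K h B)) (Category.assoc k h B.hom).symm).symm)
  show σ K (k ≫ h) A ≫ arr K χ ≫ K.lift B.obj.2 B.hom = _
  rw [← Category.assoc]
  refine Eq.trans ?_ (congrArg (eqToHom _ ≫ ·) (arr_resF_lift K k ((resF K h).map χ)).symm)
  refine Eq.trans ?_ (congrArg (fun z => eqToHom _ ≫ σ K k (res K h A) ≫ z) (arr_resF_lift K h χ).symm)
  rw [← Category.assoc (σ K k (res K h A)), σ_comp]
  simp

/-- The strict functor. -/
noncomputable def F : Cᵒᵖ ⥤ Cat.{v, max u v} where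
  obj U := Cat.of (Fib K U.unop)
  map h := (resF K h.unop).toCatHom
  map_id U := Cat.Hom.ext (resF_id K U.unop)
  map_comp f g := Cat.Hom.ext (resF_comp K f.unop g.unop)

variable {K}

/-- Morphism of the split category in terms of the original category. -/
noncomputable def tot {A B : El (F K)} (m : A ⟶ B) :
    K.obj (A.fiber : Fib K A.base).obj.2 (A.fiber : Fib K A.base).hom ⟶
      K.obj (B.fiber : Fib K B.base).obj.2 (B.fiber : Fib K B.base).hom :=
  arr K (show (A.fiber : Fib K A.base) ⟶ res K m.base B.fiber from m.fiber) ≫ σ K m.base B.fiber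

instance {A B : El (F K)} (m : A ⟶ B) : p.IsHomLift m.base (tot m) :=
  IsHomLift.comp_lift_id_left p m.base (σ K m.base B.fiber)
    (arr K (show (A.fiber : Fib K A.base) ⟶ res K m.base B.fiber from m.fiber))

lemma hom_ext {A B : El (F K)} {m n : A ⟶ B} (h : m.base = n.base) (h' : tot m = tot n) : m = n := by
  obtain ⟨b, φ⟩ := m
  obtain ⟨b', ψ⟩ := n
  subst h
  congr 1
  exact Fiber.hom_ext (IsCartesian.ext p b (σ K b B.fiber) _ _ h')

lemma tot_id (A : El (F K)) : tot (𝟙 A) = 𝟙 _ := by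
  unfold tot
  show arr K (show (A.fiber : Fib K A.base) ⟶ res K (𝟙 A.base) A.fiber from (𝟙 A : A ⟶ A).fiber) ≫
    σ K (𝟙 A.base) A.fiber = _
  rw [strict_id_fiber, σ_id]
  refine (congrArg (· ≫ _) (arr_eqToHom K (res_id K A.fiber).symm)).trans ?_
  exact eqToHom_trans _ _

lemma tot_comp {A B D : El (F K)} (m : A ⟶ B) (n : B ⟶ D) : tot (m ≫ n) = tot m ≫ tot n := by
  unfold tot
  have e : arr K (show (A.fiber : Fib K A.base) ⟶ res K (m ≫ n).base D.fiber from (m ≫ n).fiber) =
      arr K (show (A.fiber : Fib K A.base) ⟶ res K m.base B.fiber from m.fiber) ≫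
        arr K ((resF K m.base).map (show (B.fiber : Fib K B.base) ⟶ res K n.base D.fiber from n.fiber)) ≫
          eqToHom (congrArg (K.obj (D.fiber : Fib K D.base).obj.2) (Category.assoc m.base n.base _).symm) := by
    rw [← arr_eqToHom K (res_comp K n.base m.base D.fiber).symm, ← arr_comp, ← arr_comp]
    exact congrArg (arr K) (strict_comp_fiber m n)
  refine (congrArg (· ≫ σ K (m.base ≫ n.base) D.fiber) e).trans ?_
  simp only [Category.assoc]
  rw [← σ_comp K n.base m.base D.fiber]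
  congr 1
  rw [← Category.assoc, ← Category.assoc]
  exact congrArg (· ≫ σ K n.base D.fiber) (arr_resF K m.base _)

/-- Constructor of morphisms. -/
noncomputable def mk {A B : El (F K)} (h : A.base ⟶ B.base)
    (φ : K.obj (A.fiber : Fib K A.base).obj.2 (A.fiber : Fib K A.base).hom ⟶
      K.obj (B.fiber : Fib K B.base).obj.2 (B.fiber : Fib K B.base).hom) [p.IsHomLift h φ] : A ⟶ B :=
  ⟨h, Fiber.homMk p A.base (IsCartesian.map p h (σ K h B.fiber) φ)⟩

@[simp]
lemma mk_base {A B : El (F K)} (h : A.base ⟶ B.base)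
    (φ : K.obj (A.fiber : Fib K A.base).obj.2 (A.fiber : Fib K A.base).hom ⟶
      K.obj (B.fiber : Fib K B.base).obj.2 (B.fiber : Fib K B.base).hom) [p.IsHomLift h φ] :
    (mk h φ).base = h := rfl

lemma tot_mk {A B : El (F K)} (h : A.base ⟶ B.base)
    (φ : K.obj (A.fiber : Fib K A.base).obj.2 (A.fiber : Fib K A.base).hom ⟶
      K.obj (B.fiber : Fib K B.base).obj.2 (B.fiber : Fib K B.base).hom) [p.IsHomLift h φ] :
    tot (mk h φ) = φ :=
  IsCartesian.fac p h (σ K h B.fiber) φ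

/-- The comparison functor to the original category. -/
noncomputable def G : El (F K) ⥤ X where
  obj A := K.obj (A.fiber : Fib K A.base).obj.2 (A.fiber : Fib K A.base).hom
  map m := tot m
  map_id := tot_id
  map_comp := tot_comp

lemma G_comp : G (K := K) ⋙ p = CoGrothendieck.forget (F K).toPseudofunctor' :=
  CategoryTheory.Functor.ext (fun A => K.obj_proj (A.fiber : Fib K A.base).obj.2 _)
    fun A B m => IsHomLift.fac' p m.base (tot m)

/-- The tautological formal inverse image. -/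
def triv (K : FibCat.Cleavage p) (a : X) : El (F K) := ⟨p.obj a, (⟨p.obj a, 𝟙 _, ⟨a, rfl⟩⟩ : Fib K (p.obj a))⟩

instance isIso_triv (a : X) : IsIso (K.lift (rfl : p.obj a = p.obj a) (𝟙 (p.obj a))) :=
  IsStronglyCartesian.isIso_of_base_isIso p (𝟙 (p.obj a)) (K.lift rfl (𝟙 (p.obj a)))

instance (a : X) : p.IsHomLift (𝟙 (p.obj a)) (inv (K.lift (rfl : p.obj a = p.obj a) (𝟙 (p.obj a)))) :=
  IsHomLift.lift_id_inv_isIso p (p.obj a) _

instance {a b : X} (φ : a ⟶ b) :
    p.IsHomLift (p.map φ) (K.lift (rfl : p.obj a = p.obj a) (𝟙 (p.obj a)) ≫ φ ≫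
      inv (K.lift (rfl : p.obj b = p.obj b) (𝟙 (p.obj b)))) :=
  inferInstance

/-- The comparison functor from the original category. -/
noncomputable def E : X ⥤ El (F K) where
  obj := triv K
  map {a b} φ := mk (p.map φ) (K.lift (rfl : p.obj a = p.obj a) (𝟙 (p.obj a)) ≫ φ ≫
      inv (K.lift (rfl : p.obj b = p.obj b) (𝟙 (p.obj b))))
  map_id a := hom_ext (p.map_id a) (by
    rw [tot_mk, tot_id]
    erw [Category.id_comp, IsIso.hom_inv_id])
  map_comp {a b c} φ ψ := hom_ext (p.map_comp φ ψ) (by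
    rw [tot_mk, tot_comp, tot_mk, tot_mk]
    simp)

variable (𝒳 : BasedCategory.{v, max u v} C) [𝒳.p.IsFibered] (K' : FibCat.Cleavage 𝒳.p)

/-- `E` over the base. -/
noncomputable def Eb : 𝒳 ⥤ᵇ BasedCategory.ofFunctor (CoGrothendieck.forget (F K').toPseudofunctor') where
  toFunctor := E

/-- `G` over the base. -/
noncomputable def Gb : BasedCategory.ofFunctor (CoGrothendieck.forget (F K').toPseudofunctor') ⥤ᵇ 𝒳 where
  toFunctor := G
  w := G_comp

/-- `E` followed by `G` is the identity. -/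
noncomputable def unitIso : BasedFunctor.comp (Eb 𝒳 K') (Gb 𝒳 K') ≅ BasedFunctor.id 𝒳 :=
  BasedNatIso.mkNatIso
    (NatIso.ofComponents (fun a => @asIso _ _ _ _ (K'.lift (rfl : 𝒳.p.obj a = 𝒳.p.obj a) (𝟙 (𝒳.p.obj a)))
        (IsStronglyCartesian.isIso_of_base_isIso 𝒳.p (𝟙 (𝒳.p.obj a)) _))
      fun {a b} φ => by
        show tot (E.map φ) ≫ _ = _ ≫ φ
        rw [show tot (E.map φ) = _ from tot_mk _ _]
        simp [Category.assoc])
    fun a => ((K'.isCartesian (rfl : 𝒳.p.obj a = 𝒳.p.obj a) (𝟙 (𝒳.p.obj a))).toIsHomLift :)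

lemma fiber_proj (A : El (F K)) : p.obj (G.obj A) = A.base := K.obj_proj (A.fiber : Fib K A.base).obj.2 _

lemma lift_over (A : El (F K)) :
    p.IsHomLift (eqToHom (fiber_proj A)) (K.lift (rfl : p.obj (G.obj A) = p.obj (G.obj A)) (𝟙 _)) := by
  refine IsHomLift.of_fac' p _ _ (K.obj_proj _ _) (fiber_proj A) ?_
  rw [IsHomLift.fac' p (𝟙 (p.obj (G.obj A))) (K.lift (rfl : p.obj (G.obj A) = p.obj (G.obj A)) (𝟙 _))]
  simp

lemma inv_over (A : El (F K)) :
    p.IsHomLift (eqToHom (fiber_proj A).symm)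
      (@CategoryTheory.inv _ _ _ _ (K.lift (rfl : p.obj (G.obj A) = p.obj (G.obj A)) (𝟙 _)) (isIso_triv _)) := by
  haveI := isIso_triv (K := K) (G.obj A)
  haveI := IsHomLift.lift_id_inv_isIso p (p.obj (G.obj A)) (K.lift (rfl : p.obj (G.obj A) = p.obj (G.obj A)) (𝟙 _))
  refine IsHomLift.of_fac' p _ _ (fiber_proj A) (K.obj_proj _ _) ?_
  rw [IsHomLift.fac' p (𝟙 (p.obj (G.obj A))) (CategoryTheory.inv (K.lift (rfl : p.obj (G.obj A) = p.obj (G.obj A)) (𝟙 _)))]
  simp

/-- Objects of the split category are tautological up to isomorphism. -/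
noncomputable def counitApp (A : El (F K)) : triv K (G.obj A) ≅ A where
  hom := @mk _ _ _ _ _ _ _ (triv K (G.obj A)) A (eqToHom (fiber_proj A))
    (K.lift (rfl : p.obj (G.obj A) = p.obj (G.obj A)) (𝟙 _)) (lift_over A)
  inv := @mk _ _ _ _ _ _ _ A (triv K (G.obj A)) (eqToHom (fiber_proj A).symm)
    (@CategoryTheory.inv _ _ _ _ (K.lift (rfl : p.obj (G.obj A) = p.obj (G.obj A)) (𝟙 _)) (isIso_triv _)) (inv_over A)
  hom_inv_id := hom_ext (eqToHom_trans (fiber_proj A) (fiber_proj A).symm) (by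
    rw [tot_comp, tot_id, tot_mk, tot_mk]
    exact @IsIso.hom_inv_id _ _ _ _ _ (isIso_triv _))
  inv_hom_id := hom_ext (eqToHom_trans (fiber_proj A).symm (fiber_proj A)) (by
    rw [tot_comp, tot_id, tot_mk, tot_mk]
    exact @IsIso.inv_hom_id _ _ _ _ _ (isIso_triv _))

lemma counitApp_base (A : El (F K)) :
    (counitApp A).hom.base = eqToHom (K.obj_proj (A.fiber : Fib K A.base).obj.2 _) := rfl

lemma counitApp_tot (A : El (F K)) :
    tot (counitApp A).hom = K.lift (rfl : p.obj (G.obj A) = p.obj (G.obj A)) (𝟙 _) := by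
  unfold counitApp
  exact @tot_mk _ _ _ _ _ _ _ _ _ _ _ (lift_over A)

/-- `G` followed by `E` is the identity. -/
noncomputable def counitIso : BasedFunctor.comp (Gb 𝒳 K') (Eb 𝒳 K') ≅ BasedFunctor.id _ :=
  BasedNatIso.mkNatIso
    (NatIso.ofComponents (fun A => counitApp A) fun {A B} m => hom_ext (by
        show 𝒳.p.map (tot m) ≫ (counitApp B).hom.base = (counitApp A).hom.base ≫ m.base
        simp [counitApp_base, IsHomLift.fac' 𝒳.p m.base (tot m)]) (by
        show tot (E.map (tot m) ≫ (counitApp B).hom) = tot ((counitApp A).hom ≫ m)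
        rw [tot_comp, tot_comp, counitApp_tot, counitApp_tot, show tot (E.map (tot m)) = _ from tot_mk _ _]
        haveI := isIso_triv (K := K') (G.obj B)
        simp only [Category.assoc]
        exact congrArg (_ ≫ ·) ((congrArg (tot m ≫ ·) (IsIso.inv_hom_id _)).trans (Category.comp_id _))))
    fun A => IsHomLift.of_fac' _ _ _ (K'.obj_proj (A.fiber : Fib K' A.base).obj.2 _) rfl (by
      show (counitApp A).hom.base = _
      simp [counitApp_base])

end FibLib.Spl
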