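/-
Splittings transported along isomorphisms of categories over the base.
-/
import Groth.Agent.FibLib.Strict
import Groth.Agent.FibLib.Clv
import Mathlib.CategoryTheory.FiberedCategory.BasedCategory

set_option autoImplicit false
set_option backward.isDefEq.respectTransparency false
set_option backward.isDefEq.respectTransparency.types false
set_option backward.defeqAttrib.useBackward true

universe v₁ v₂ v₃ u₁ u₂ u₃

open CategoryTheory CategoryTheory.Functor Pseudofunctor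

namespace FibLib

variable {𝒮 : Type u₁} [Category.{v₁} 𝒮]

lemma clv_lift_congr {𝒴 : Type u₃} [Category.{v₃} 𝒴] {q : 𝒴 ⥤ 𝒮} (L : FibCat.Cleavage q) {R S : 𝒮}
    {y y' : 𝒴} (e : y = y') (hy : q.obj y = S) (hy' : q.obj y' = S) (f : R ⟶ S) :
    ∃ h : L.obj hy f = L.obj hy' f, L.lift hy f ≫ eqToHom e = eqToHom h ≫ L.lift hy' f := by
  subst e
  exact ⟨rfl, by simp⟩

/-- The canonical cleavage of a strict functor is a splitting. -/
theorem ofCoGrothendieck_isSplitting (F : 𝒮ᵒᵖ ⥤ Cat.{v₂, u₂}) :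
    (FibCat.Cleavage.ofCoGrothendieck F.toPseudofunctor').IsSplitting := by
  constructor
  · rintro S ⟨S', x⟩ rfl
    have h : (⟨S', (F.map (𝟙 S' ≫ eqToHom rfl).op).toFunctor.obj x⟩ : El F) = ⟨S', x⟩ := by
      simp [F.map_id]
    refine ⟨h, CoGrothendieck.Hom.ext _ _ ?_ ?_⟩
    · rw [eqToHom_base]
      exact Category.id_comp _
    · rw [eqToHom_fiber]
      exact (eqToHom_refl _ rfl).symm.trans (eqToHom_trans _ _).symm
  · rintro S T U f g ⟨S', x⟩ rfl
    have e₁ : (f ≫ eqToHom (rfl : S' = S') : T ⟶ S') = f := Category.comp_id _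
    have e₂ : (g ≫ eqToHom (rfl : T = T) : U ⟶ T) = g := Category.comp_id _
    have e₃ : ((g ≫ f) ≫ eqToHom (rfl : S' = S') : U ⟶ S') = g ≫ f := Category.comp_id _
    have hh : (F.map (g ≫ eqToHom (rfl : T = T)).op).toFunctor.obj ((F.map (f ≫ eqToHom (rfl : S' = S')).op).toFunctor.obj x) =
        (F.map ((g ≫ f) ≫ eqToHom (rfl : S' = S')).op).toFunctor.obj x := by
      rw [e₁, e₂, e₃, op_comp, F.map_comp]
      rfl
    refine ⟨congrArg (fun z => (⟨U, z⟩ : El F)) hh, CoGrothendieck.Hom.ext _ _ ?_ ?_⟩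
    · show (g ≫ eqToHom rfl) ≫ (f ≫ eqToHom rfl) = (eqToHom _ : (⟨U, _⟩ : El F) ⟶ ⟨U, _⟩).base ≫ ((g ≫ f) ≫ eqToHom rfl)
      rw [eqToHom_base]
      simp
    · rw [strict_comp_fiber, strict_comp_fiber, eqToHom_fiber]
      show 𝟙 _ ≫ (F.map _).toFunctor.map (𝟙 _) ≫ eqToHom _ = (eqToHom _ ≫ (F.map _).toFunctor.map (𝟙 _) ≫ eqToHom _) ≫ eqToHom _
      simp

variable {𝒳 : Type u₂} [Category.{v₂} 𝒳] {𝒴 : Type u₃} [Category.{v₃} 𝒴]

/-- Splittings transport along isomorphisms of categories over the base. -/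
theorem exists_isSplitting_of_iso {p : 𝒳 ⥤ 𝒮} {q : 𝒴 ⥤ 𝒮} (L : FibCat.Cleavage q) (hL : L.IsSplitting)
    (Φ : 𝒳 ⥤ 𝒴) (Ψ : 𝒴 ⥤ 𝒳) (h₁ : Φ ⋙ Ψ = 𝟭 𝒳) (h₂ : Ψ ⋙ Φ = 𝟭 𝒴) (h₃ : Φ ⋙ q = p) :
    ∃ K : FibCat.Cleavage p, K.IsSplitting := by
  let Φb : BasedFunctor (BasedCategory.ofFunctor p) (BasedCategory.ofFunctor q) := { toFunctor := Φ, w := h₃ }
  let Ψb : BasedFunctor (BasedCategory.ofFunctor q) (BasedCategory.ofFunctor p) :=
    { toFunctor := Ψ, w := by
        show Ψ ⋙ p = q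
        rw [← h₃, ← Functor.assoc, h₂, Functor.id_comp] }
  haveI : Φ.Faithful := ⟨fun {a b} f g e => by
    have hf := Functor.congr_hom h₁.symm f
    have hg := Functor.congr_hom h₁.symm g
    simp only [Functor.id_map, Functor.comp_map] at hf hg
    rw [hf, hg, e]⟩
  have hΦ : ∀ a, Ψ.obj (Φ.obj a) = a := fun a => Functor.congr_obj h₁ a
  have hΨ : ∀ y, Φ.obj (Ψ.obj y) = y := fun y => Functor.congr_obj h₂ y
  have hq : ∀ {S : 𝒮} {a : 𝒳}, p.obj a = S → q.obj (Φ.obj a) = S := fun h =>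
    (Functor.congr_obj h₃ _).trans h
  let lft : ∀ {R S : 𝒮} {a : 𝒳} (ha : p.obj a = S) (f : R ⟶ S), Ψ.obj (L.obj (hq ha) f) ⟶ a :=
    fun {R S a} ha f => Ψ.map (L.lift (hq ha) f) ≫ eqToHom (hΦ a)
  have hmap : ∀ {R S : 𝒮} {a : 𝒳} (ha : p.obj a = S) (f : R ⟶ S),
      Φ.map (lft ha f) = eqToHom (hΨ _) ≫ L.lift (hq ha) f := by
    intro R S a ha f
    have := Functor.congr_hom h₂ (L.lift (hq ha) f)
    simp only [Functor.comp_map, Functor.id_map] at this
    simp [lft, this, eqToHom_map]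
  let K : FibCat.Cleavage p :=
    { obj := fun {R S a} ha f => Ψ.obj (L.obj (hq ha) f)
      lift := fun {R S a} ha f => lft ha f
      isCartesian := fun {R S a} ha f => by
        haveI h0 : p.IsHomLift f (Ψ.map (L.lift (hq ha) f)) :=
          BasedFunctor.preserves_isHomLift Ψb f (L.lift (hq ha) f)
        haveI : p.IsHomLift f (lft ha f) := inferInstanceAs (p.IsHomLift f (Ψ.map (L.lift (hq ha) f) ≫ eqToHom (hΦ a)))
        refine { universal_property := fun {b} χ hχ => ?_ }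
        haveI : q.IsHomLift f (Φ.map χ) := @BasedFunctor.preserves_isHomLift _ _ _ _ Φb _ _ _ _ f χ hχ
        let ω := IsCartesian.map q f (L.lift (hq ha) f) (Φ.map χ)
        have hω : ω ≫ L.lift (hq ha) f = Φ.map χ := IsCartesian.fac q f _ _
        haveI hω0 : q.IsHomLift (𝟙 R) ω := inferInstance
        haveI : p.IsHomLift (𝟙 R) (Ψ.map ω) := @BasedFunctor.preserves_isHomLift _ _ _ _ Ψb _ _ _ _ (𝟙 R) ω hω0
        haveI : p.IsHomLift (𝟙 R) (eqToHom (hΦ b).symm) :=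
          IsHomLift.eqToHom_domain_lift_id _ (IsHomLift.domain_eq p f χ)
        refine ⟨eqToHom (hΦ b).symm ≫ Ψ.map ω, ⟨inferInstance, ?_⟩, fun ψ ⟨hψ, hψ'⟩ => Φ.map_injective ?_⟩
        · have e := Functor.congr_hom h₁.symm χ
          simp only [Functor.id_map, Functor.comp_map] at e
          simp only [lft, Category.assoc, ← Ψ.map_comp_assoc, hω]
          exact e.symm
        · haveI : q.IsHomLift (𝟙 R) (Φ.map ψ) := @BasedFunctor.preserves_isHomLift _ _ _ _ Φb _ _ _ _ (𝟙 R) ψ hψ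
          have e := Functor.congr_hom h₂ ω
          simp only [Functor.comp_map, Functor.id_map] at e
          have hR : q.obj (L.obj (hq ha) f) = R := L.obj_proj _ _
          haveI : q.IsHomLift (𝟙 R) (eqToHom (hΨ (L.obj (hq ha) f))) := IsHomLift.eqToHom_codomain_lift_id _ hR
          have h₄ : Φ.map ψ ≫ eqToHom (hΨ _) = ω :=
            IsCartesian.map_uniq q f (L.lift (hq ha) f) (Φ.map χ) _ (by
              rw [Category.assoc, ← hmap ha f, ← Φ.map_comp, hψ'])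
          rw [Φ.map_comp, eqToHom_map, e, ← h₄]
          simp }
  refine ⟨K, fun S a ha => ?_, fun S T U f g a ha => ?_⟩
  · obtain ⟨h, hh⟩ := hL.1 (hq ha)
    refine ⟨(congrArg Ψ.obj h).trans (hΦ a), Φ.map_injective ?_⟩
    show Φ.map (lft ha (𝟙 S)) = _
    rw [hmap ha, hh, eqToHom_map, eqToHom_trans]
  · obtain ⟨h, hh⟩ := hL.2 f g (hq ha)
    have e₁ : Φ.obj (Ψ.obj (L.obj (hq ha) f)) = L.obj (hq ha) f := hΨ _
    obtain ⟨h', hh'⟩ := clv_lift_congr L e₁ (hq (K.obj_proj ha f)) (L.obj_proj (hq ha) f) g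
    refine ⟨congrArg Ψ.obj (h'.trans h), Φ.map_injective ?_⟩
    show Φ.map (lft (K.obj_proj ha f) g ≫ lft ha f) = Φ.map (eqToHom _ ≫ lft ha (g ≫ f))
    rw [Φ.map_comp, show Φ.map (lft (K.obj_proj ha f) g) = _ from hmap (K.obj_proj ha f) g, hmap ha f, Φ.map_comp, hmap ha (g ≫ f)]
    rw [eqToHom_map, Category.assoc, reassoc_of% hh', hh]
    simp

end FibLib
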